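import Cfsg.Agent.SubfieldOver.Cases
import Mathlib.RingTheory.RootsOfUnity.EnoughRootsOfUnity

/-!
# Subgroups given by the entries and the matrices of root elements
-/

set_option autoImplicit false

namespace CfsgLib.SubfieldOver

open Cfsg.Lie CfsgLib CfsgLib.Chevalley
open CfsgLib.ChevSubfield (gmap fixElem)
open scoped MatrixGroups

variable {D : ChevalleyDatum} {F : Type*} [Field F] (p : ℕ) [Fact p.Prime] [CharP F p]

theorem gmap_frobenius_iff (n : ℕ) (g : GL D.Idx F) :
    gmap D (iterateFrobenius F p n) g = g ↔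
      ∀ i j : D.Idx, ((g : Matrix D.Idx D.Idx F) i j) ^ p ^ n = (g : Matrix D.Idx D.Idx F) i j := by
  constructor
  · intro e i j
    have := congrArg (fun A : GL D.Idx F => (A : Matrix D.Idx D.Idx F) i j) e
    simpa [iterateFrobenius_def] using this
  · intro e
    apply Units.ext
    ext i j
    simpa [iterateFrobenius_def] using e i j

omit [Fact p.Prime] [CharP F p] in
/-- The subgroup generated by the matrices `x_s(t)`, `s` arbitrary. -/
theorem closure_x_le_iff (hD : Good D) (Q : F → Prop) (M : Subgroup (GL D.Idx F)) :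
    Subgroup.closure {g : GL D.Idx F | ∃ (s : ℕ) (t : F), Q t ∧
      (g : Matrix D.Idx D.Idx F) = D.x F s t} ≤ M ↔ ∀ r t, Q t → X hD r t ∈ M := by
  rw [Subgroup.closure_le]
  constructor
  · exact fun h r t ht => h ⟨r, t, ht, (coe_eq_x_iff hD r.isLt).2 rfl⟩
  · rintro h g ⟨s, t, ht, e⟩
    by_cases hs : s < D.nroots
    · rw [(coe_eq_x_iff hD hs).1 e]
      exact h _ t ht
    · rw [ChevalleyDatum.x, dif_neg hs] at e
      rw [show g = 1 from Units.ext e]
      exact one_mem M

/-- A fixed primitive `(p^a - 1)`-th root of unity makes `a` divide the degree. -/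
theorem dvd_of_primitive {a n : ℕ} {ζ : F} (hζ : IsPrimitiveRoot ζ (p ^ a - 1))
    (ha : 1 ≤ a) (hn : 1 ≤ n) (hfix : ζ ^ p ^ n = ζ) : a ∣ n := by
  have hp := (Fact.out : p.Prime)
  have h2 : 2 ≤ p ^ a := le_trans hp.two_le (Nat.le_self_pow (by omega) p)
  have hz : ζ ≠ 0 := hζ.ne_zero (by omega)
  have h3 : 1 ≤ p ^ n := Nat.one_le_pow _ _ hp.pos
  have h1 : ζ ^ (p ^ n - 1) = 1 := by
    apply mul_left_cancel₀ hz
    rw [← pow_succ', Nat.sub_add_cancel h3, hfix, mul_one]
  have hd := hζ.dvd_of_pow_eq_one _ h1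
  have hg := Nat.pow_sub_one_gcd_pow_sub_one p a n
  rw [Nat.gcd_eq_left hd] at hg
  have hga : a = Nat.gcd a n := by
    have h4 : p ^ a = p ^ Nat.gcd a n := by
      have := Nat.one_le_pow (Nat.gcd a n) p hp.pos
      omega
    exact Nat.pow_right_injective hp.two_le h4
  exact hga.symm ▸ Nat.gcd_dvd_right a n

end CfsgLib.SubfieldOver
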