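import Cfsg.Agent.SubfieldOver.OverChecks
import Cfsg.Prelude.Def_ChevG2
import Cfsg.Prelude.Def_ChevB2
import Cfsg.Prelude.Def_ChevD4
import Cfsg.Prelude.Def_ChevF4
import Cfsg.Prelude.Def_ChevE6
import Cfsg.Prelude.Def_ChevE7
import Cfsg.Prelude.Def_ChevE8

/-!
# Kernel evaluation of the orbit checks
-/

set_option autoImplicit false

namespace CfsgLib.SubfieldOver

open Cfsg.Lie

set_option maxRecDepth 100000
set_option maxHeartbeats 4000000

/-- The long roots of `G₂`. -/
def longG2 (r : ℕ) : Bool := [0, 1, 5, 6, 10, 11].contains r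

/-- The long roots of `B₂`. -/
def longB2 (r : ℕ) : Bool := [0, 3, 4, 7].contains r

/-- The long roots of `F₄`. -/
def longF4 (r : ℕ) : Bool :=
  [0, 1, 2, 4, 5, 6, 15, 16, 17, 21, 22, 23, 24, 25, 26, 30, 31, 32, 41, 42, 43, 45, 46, 47].contains r

/-- Every root is long in the simply laced types. -/
def longAll (_ : ℕ) : Bool := true

/-- The checks common to all types. -/
def chkCommon (D : ChevalleyDatum) (L : ℕ → Bool) (top : ℕ) : Bool :=
  chkOrbit D L top && chkTorus D L && chkTop D top && chkMain D L top && chkPerp D top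

theorem chevG2_over : (chkCommon chevG2 longG2 11 && chkA2 chevG2 longG2 &&
    chkOrbit chevG2 (fun r => !longG2 r) 9 && chkShortRel chevG2 3 9 11 0 &&
    chevG2.pairing 9 11 == 3 && !longG2 (chevG2.simple 0)) = true := by decide +kernel
theorem chevB2_over : (chkCommon chevB2 longB2 7 && chkOrbit chevB2 (fun r => !longB2 r) 6 &&
    !longB2 (chevB2.simple 0) && chevB2.commTerms 5 6 == [(7, 2, 1, 1)] &&
    chevB2.commTerms 4 5 == [(6, 1, 1, 1), (7, -1, 1, 2)] &&
    chevB2.commTerms 6 4 == [] && chevB2.commTerms 7 4 == [] && chevB2.commTerms 6 7 == [] &&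
    CfsgLib.Chevalley.reflT chevB2 1 6 == 5 && CfsgLib.Chevalley.reflT chevB2 1 7 == 7 &&
    CfsgLib.Chevalley.reflT chevB2 0 6 == 6 && CfsgLib.Chevalley.reflT chevB2 0 7 == 4) = true := by
  decide +kernel
theorem chevD4_over : (chkCommon chevD4 longAll 23 && chkA2 chevD4 longAll && chkPair chevD4) = true :=
  by decide +kernel
theorem chevF4_over : (chkCommon chevF4 longF4 47 && chkA2 chevF4 longF4 &&
    chkOrbit chevF4 (fun r => !longF4 r) 44 && chkShortRel chevF4 2 44 47 0 &&
    chevF4.pairing 44 47 == 2 && !longF4 (chevF4.simple 0)) = true := by decide +kernel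
theorem chevE6_over : (chkCommon chevE6 longAll 71 && chkA2 chevE6 longAll && chkPair chevE6) = true :=
  by decide +kernel
theorem chevE7_over : (chkCommon chevE7 longAll 125 && chkA2 chevE7 longAll && chkPair chevE7) = true :=
  by decide +kernel
theorem chevE8_over : (chkCommon chevE8 longAll 239 && chkA2 chevE8 longAll && chkPair chevE8) = true :=
  by decide +kernel

end CfsgLib.SubfieldOver
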