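import Cfsg.Agent.SubfieldOver.Exceptional
import Cfsg.Agent.SubfieldOver.OverTables

/-!
# The parameters in an overgroup of `B₂`

In odd characteristic two short roots add to a long one.  In characteristic two the long parameters
form a field by an Artin–Schreier argument, and the exceptional central part is fixed.
-/

set_option autoImplicit false

namespace CfsgLib.SubfieldOver

open Cfsg.Lie CfsgLib CfsgLib.Chevalley
open CfsgLib.ChevSubfield (gmap fixElem)
open scoped MatrixGroups

variable {F : Type*} [Field F]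

/-- A finite additive group with `1` in characteristic two, stable under multiplication by all
`x + x²`, is closed under products. -/
theorem mul_mem_of_artinSchreier [CharP F 2] {T : AddSubgroup F} (hfin : (T : Set F).Finite)
    (h1 : (1 : F) ∈ T) (h : ∀ x ∈ T, ∀ y ∈ T, (x + x ^ 2) * y ∈ T) {g k : F} (hg : g ∈ T)
    (hk : k ∈ T) : g * k ∈ T := by
  set R : Set F := {r | ∀ y ∈ T, r * y ∈ T} with hR
  have hRT : R ⊆ (T : Set F) := fun r hr => by simpa using hr 1 h1
  by_cases hgR : g ∈ R
  · exact hgR k hk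
  by_cases hkR : k ∈ R
  · rw [mul_comm]; exact hkR g hg
  have h2 : (2 : F) = 0 := by exact_mod_cast CharP.cast_eq_zero F 2
  have hRadd : ∀ a ∈ R, ∀ b ∈ R, a + b ∈ R := fun a ha b hb y hy => by
    rw [add_mul]; exact T.add_mem (ha y hy) (hb y hy)
  have hRmul : ∀ a ∈ R, ∀ b ∈ R, a * b ∈ R := fun a ha b hb y hy => by
    rw [mul_assoc]; exact ha _ (hb y hy)
  have hAS : ∀ x ∈ T, x + x ^ 2 ∈ R := fun x hx y hy => h x hx y hy
  have key : ∀ x ∈ T, x ∉ R → x ^ 2 = x + 1 := by
    intro x hx hxR
    have hsmall : ∀ r ∈ R, r + r ^ 2 = 0 := by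
      intro r hr
      by_contra hne
      have hs : r + r ^ 2 ∈ R := hRadd r hr _ (by rw [pow_two]; exact hRmul r hr r hr)
      have hv : (r + r ^ 2) * x ∈ R := by
        have e : (r + r ^ 2) * x = (r * x + (r * x) ^ 2) + r ^ 2 * (x + x ^ 2) := by
          linear_combination (-(r ^ 2 * x ^ 2)) * h2
        rw [e]
        exact hRadd _ (hAS _ (hr x hx)) _ (hRmul _ (by rw [pow_two]; exact hRmul r hr r hr) _ (hAS x hx))
      have hbij : Set.BijOn (fun y => (r + r ^ 2) * y) R R :=
        ((hfin.subset hRT).injOn_iff_bijOn_of_mapsTo fun y hy => hRmul _ hs y hy).1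
          (mul_right_injective₀ hne).injOn
      obtain ⟨y, hy, hy1⟩ := hbij.surjOn (show (1 : F) ∈ R from fun y hy => by rwa [one_mul])
      refine hxR ?_
      have := hRmul _ hy _ hv
      rwa [← mul_assoc, mul_comm y, show (r + r ^ 2) * y = 1 from hy1, one_mul] at this
    have h3 : (x + x ^ 2) * (x + x ^ 2 + 1) = 0 := by
      linear_combination hsmall _ (hAS x hx)
    rcases mul_eq_zero.1 h3 with h4 | h4
    · exfalso
      apply hxR
      rcases mul_eq_zero.1 (show x * (x + 1) = 0 by linear_combination h4) with rfl | h5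
      · intro y _; simp
      · rw [show x = 1 by linear_combination h5 - h2]
        intro y hy; simpa using hy
    · linear_combination h4 - (x + 1) * h2
  have eg := key g hg hgR
  have ek := key k hk hkR
  rcases mul_eq_zero.1 (show (g + k) * (g + k + 1) = 0 by
    linear_combination eg + ek + (g * k + g + k + 1) * h2) with h5 | h5
  · rw [show k = g by linear_combination h5 - g * h2, ← pow_two, eg]
    exact T.add_mem hg h1
  · rw [show g * k = 1 by linear_combination g * h5 - eg - (g + 1) * h2]
    exact h1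

/-- The roots of `B₂` by index. -/
def bR (k : ℕ) (h : k < chevB2.nroots := by decide) : Root chevB2 := ⟨k, h⟩

variable {hW : GoodWeyl chevB2} {H : Subgroup (GL chevB2.Idx F)}

theorem b2_facts :
    chkCommon chevB2 longB2 7 = true ∧ chkOrbit chevB2 (fun r => !longB2 r) 6 = true ∧
    chevB2.commTerms 5 6 = [(7, 2, 1, 1)] ∧
    chevB2.commTerms 4 5 = [(6, 1, 1, 1), (7, -1, 1, 2)] ∧
    chevB2.commTerms 6 4 = [] ∧ chevB2.commTerms 7 4 = [] ∧ chevB2.commTerms 6 7 = [] ∧
    reflT chevB2 1 6 = 5 ∧ reflT chevB2 1 7 = 7 ∧ reflT chevB2 0 6 = 6 ∧ reflT chevB2 0 7 = 4 := by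
  have := chevB2_over
  simp only [Bool.and_eq_true, beq_iff_eq] at this
  tauto

theorem b2_orbit : chkOrbit chevB2 longB2 7 = true ∧ chkTorus chevB2 longB2 = true ∧
    chkTop chevB2 7 = true := by
  have := b2_facts.1
  simp only [chkCommon, Bool.and_eq_true] at this
  tauto

/-- In odd characteristic the long parameters are closed under products. -/
theorem b2_mul_odd (p : ℕ) [Fact p.Prime] [CharP F p] (hp : p ≠ 2) (O : Over hW H) [Finite H]
    {x y : F} (hx : x ∈ params hW.good H (bR 7)) (hy : y ∈ params hW.good H (bR 7)) :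
    x * y ∈ params hW.good H (bR 7) := by
  obtain ⟨hO, hTor, -⟩ := b2_orbit
  obtain ⟨-, -, h56, h45, -⟩ := b2_facts
  have h2 : (2 : F) ≠ 0 := by
    intro h
    have := (CharP.cast_eq_zero_iff F p 2).1 (by exact_mod_cast h)
    exact hp ((Nat.prime_dvd_prime_iff_eq Fact.out Nat.prime_two).1 this)
  have hn : ∀ z, (2 : F) * z ∈ params hW.good H (bR 7) → z ∈ params hW.good H (bR 7) := by
    intro z hz
    have : (((p + 1) / 2 : ℕ) : F) * 2 = 1 := by
      have hodd := (Fact.out (p := p.Prime)).odd_of_ne_two hp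
      obtain ⟨m, hm⟩ := hodd
      rw [show (p + 1) / 2 = m + 1 by omega]
      have hp0 : ((2 * m + 1 : ℕ) : F) = 0 := hm ▸ CharP.cast_eq_zero F p
      push_cast at hp0 ⊢
      linear_combination hp0
    have h3 := intCast_mul_mem hz (((p + 1) / 2 : ℕ) : ℤ)
    rwa [Int.cast_natCast, ← mul_assoc, this, one_mul] at h3
  -- short parameters multiply into the long ones
  have hss : ∀ {t u : F}, t ∈ params hW.good H (bR 5) → u ∈ params hW.good H (bR 6) →
      t * u ∈ params hW.good H (bR 7) := by
    intro t u ht hu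
    refine hn _ ?_
    have := O.commRhs_mem (r := bR 5) (s := bR 6) (by decide) (by decide) ht hu
    rw [commRhs_head hW.good (show chevB2.commTerms (bR 5 : ℕ) (bR 6 : ℕ) = _ from h56) (by decide)
      (by simp), pow_one, pow_one] at this
    have h3 := neg_mem (mem_params.2 this)
    rwa [show -(((2 : ℤ) : F) * -t * u) = 2 * (t * u) by push_cast; ring] at h3
  have hb : ∀ z, z ∈ params hW.good H (bR 6) → z ∈ params hW.good H (bR 7) := fun z hz => by
    simpa using hss (O.one_mem' (bR 5)) hz
  have hinv1 : ∀ z ∈ params hW.good H (bR 7), z ∈ params hW.good H (bR 6) := by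
    intro z hz
    have hR := O.commRhs_mem (r := bR 4) (s := bR 5) (by decide) (by decide)
      (show z ∈ params hW.good H (bR 4) by
        rw [O.params_orbit (top := bR 7) hO (show longB2 (bR 4 : ℕ) = true by decide)]; exact hz)
      (O.one_mem' (bR 5))
    have e : commRhs hW.good (bR 4 : ℕ) (bR 5 : ℕ) z (1 : F) =
        X hW.good (bR 6) (-z) * X hW.good (bR 7) z := by
      rw [commRhs, show chevB2.commTerms (bR 4 : ℕ) (bR 5 : ℕ) = _ from h45]
      simp [wordGL, bR, show (6 : ℕ) < chevB2.nroots by decide, show (7 : ℕ) < chevB2.nroots by decide]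
    rw [e] at hR
    have h3 := mul_mem hR (inv_mem (mem_params.1 hz))
    rw [mul_inv_cancel_right] at h3
    simpa using neg_mem (mem_params.2 h3)
  exact hss (by
    rw [O.params_orbit (L := fun r => !longB2 r) (top := bR 6) b2_facts.2.1
      (r := bR 5) (by decide)]
    exact hinv1 x hx) (hinv1 y hy)

section CharTwo

variable [CharP F 2]

theorem b2_neg (z : F) : -z = z := by
  have h2 : (2 : F) = 0 := by exact_mod_cast CharP.cast_eq_zero F 2
  linear_combination -z * h2

theorem b2_commute (hW : GoodWeyl chevB2) (z u : F) :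
    Commute (X hW.good (bR 6) z) (X hW.good (bR 4) u) ∧
    Commute (X hW.good (bR 7) z) (X hW.good (bR 4) u) ∧
    Commute (X hW.good (bR 6) z) (X hW.good (bR 7) u) ∧
    Commute (X hW.good (bR 6) z) (X hW.good (bR 5) u) ∧
    Commute (X hW.good (bR 7) z) (X hW.good (bR 5) u) := by
  obtain ⟨-, -, h56, -, h64, h74, h67, -⟩ := b2_facts
  have h2 : ((2 : ℤ) : F) = 0 := by exact_mod_cast CharP.cast_eq_zero F 2
  have key : ∀ {r s : Root chevB2}, s ≠ r → s ≠ r.rev → chevB2.commTerms r s = [] → ∀ t v : F,
      Commute (X hW.good r t) (X hW.good s v) := by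
    intro r s hsr hne hnil t v
    show _ * _ = _ * _
    rw [X_comm hW.toGoodComm r s hsr hne t v]
    simp [commRhs, wordGL, hnil]
  refine ⟨key (by decide) (by decide) h64 _ _, key (by decide) (by decide) h74 _ _,
    key (by decide) (by decide) h67 _ _, Commute.symm ?_, ?_⟩
  · show _ * _ = _ * _
    rw [X_comm hW.toGoodComm (bR 5) (bR 6) (by decide) (by decide) u z,
      commRhs_head hW.good (show chevB2.commTerms (bR 5 : ℕ) (bR 6 : ℕ) = _ from h56) (by decide)
        (by simp), h2]
    simp [X_zero]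
  · exact commute_top hW (by decide) b2_orbit.2.2 (by decide) z u

/-- The commutator of elements with coordinates `(c, a)` and `(b, d)`. -/
theorem b2_comm_mem {t y z w : F} (hP : X hW.good (bR 6) z * X hW.good (bR 4) t ∈ H)
    (hQ : X hW.good (bR 5) y * X hW.good (bR 7) w ∈ H) :
    X hW.good (bR 6) (t * y) * X hW.good (bR 7) (t * y ^ 2) ∈ H := by
  obtain ⟨-, -, -, h45, -⟩ := b2_facts
  set A := X hW.good (bR 4) t
  set B := X hW.good (bR 5) y
  set Cc := X hW.good (bR 6) z
  set Dd := X hW.good (bR 7) w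
  have hR : commRhs hW.good (bR 4 : ℕ) (bR 5 : ℕ) t y =
      X hW.good (bR 6) (t * y) * X hW.good (bR 7) (t * y ^ 2) := by
    rw [commRhs, show chevB2.commTerms (bR 4 : ℕ) (bR 5 : ℕ) = _ from h45]
    simp [wordGL, bR, show (6 : ℕ) < chevB2.nroots by decide, show (7 : ℕ) < chevB2.nroots by decide,
      b2_neg]
  have e1 := X_comm hW.toGoodComm (bR 4) (bR 5) (by decide) (by decide) t y
  rw [hR] at e1
  set W := X hW.good (bR 6) (t * y) * X hW.good (bR 7) (t * y ^ 2)
  have hBC : Commute Cc B := (b2_commute hW z y).2.2.2.1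
  have hDC : Commute Cc Dd := (b2_commute hW z w).2.2.1
  have hDA : Commute Dd A := (b2_commute hW w t).2.1
  have hDW : Commute Dd W :=
    ((b2_commute hW (t * y) w).2.2.1.symm).mul_right (by
      show _ * _ = _ * _
      rw [X_mul, X_mul, add_comm])
  have e2 : B * Dd * (Cc * A) = Cc * A * (B * Dd) * W := by
    calc B * Dd * (Cc * A) = B * (Dd * Cc) * A := by group
      _ = (B * Cc) * (Dd * A) := by rw [← hDC.eq]; group
      _ = Cc * (B * A) * Dd := by rw [← hBC.eq, hDA.eq]; group
      _ = Cc * (A * B) * (W * Dd) := by rw [show B * A = A * B * W from e1]; group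
      _ = _ := by rw [← hDW.eq]; group
  have := mul_mem (inv_mem (mul_mem hP hQ)) (mul_mem hQ hP)
  rwa [e2, inv_mul_cancel_left] at this

/-- Conjugation by the two fundamental reflections. -/
theorem b2_refl (O : Over hW H) {t g : F}
    (hu : X hW.good (bR 6) t * X hW.good (bR 7) g ∈ H) :
    X hW.good (bR 5) t * X hW.good (bR 7) g ∈ H ∧
      X hW.good (bR 6) t * X hW.good (bR 4) g ∈ H := by
  obtain ⟨-, -, -, -, -, -, -, e1, e2, e3, e4⟩ := b2_facts
  have hη : ∀ (i : Fin chevB2.rank) (r : Root chevB2) (z : F), (eta chevB2 i r : F) * z = z := by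
    intro i r z
    rcases Int.isUnit_iff.1 (IsUnit.of_mul_eq_one _ (hW.eta_sq i r)) with h | h <;>
      simp [h, b2_neg]
  have key : ∀ i : Fin chevB2.rank,
      X hW.good (wPerm hW i (bR 6)) t * X hW.good (wPerm hW i (bR 7)) g ∈ H := by
    intro i
    have := mul_mem (mul_mem (O.nR_mem i) hu) (inv_mem (O.nR_mem i))
    rwa [show nR hW i * (X hW.good (bR 6) t * X hW.good (bR 7) g) * (nR hW i)⁻¹ =
      (nR hW i * X hW.good (bR 6) t * (nR hW i)⁻¹) *
        (nR hW i * X hW.good (bR 7) g * (nR hW i)⁻¹) by group, nR_conj, nR_conj, hη, hη] at this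
  obtain ⟨i1, hi1⟩ : ∃ i : Fin chevB2.rank, (i : ℕ) = 1 := ⟨⟨1, by decide⟩, rfl⟩
  obtain ⟨i0, hi0⟩ : ∃ i : Fin chevB2.rank, (i : ℕ) = 0 := ⟨⟨0, by decide⟩, rfl⟩
  have k1 := key i1
  have k0 := key i0
  rw [show wPerm hW i1 (bR 6) = bR 5 from Fin.ext (by rw [val_wPerm, hi1]; exact e1),
    show wPerm hW i1 (bR 7) = bR 7 from Fin.ext (by rw [val_wPerm, hi1]; exact e2)] at k1
  rw [show wPerm hW i0 (bR 6) = bR 6 from Fin.ext (by rw [val_wPerm, hi0]; exact e3),
    show wPerm hW i0 (bR 7) = bR 4 from Fin.ext (by rw [val_wPerm, hi0]; exact e4)] at k0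
  exact ⟨k1, k0⟩

/-- `d` minus the square of `c` is a long parameter. -/
theorem b2_rule (O : Over hW H) {t g : F} (hu : X hW.good (bR 6) t * X hW.good (bR 7) g ∈ H) :
    g + t ^ 2 ∈ params hW.good H (bR 7) := by
  have h1 := b2_comm_mem (hW := hW) (t := 1) (z := 0)
    (by rw [X_zero, one_mul]; exact O.one_mem' _) (b2_refl O hu).1
  rw [one_mul, one_mul] at h1
  have h2 := mul_mem (inv_mem hu) h1
  rw [mul_inv_rev, mul_assoc, inv_mul_cancel_left, X_inv, X_mul, b2_neg] at h2
  exact h2

/-- In characteristic two the long parameters are closed under products. -/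
theorem b2_mul_two (O : Over hW H) [Finite H] {x y : F} (hx : x ∈ params hW.good H (bR 7))
    (hy : y ∈ params hW.good H (bR 7)) : x * y ∈ params hW.good H (bR 7) := by
  set T := params hW.good H (bR 7)
  have hfin := finite_params hW.good H (bR 7)
  have hd : ∀ g ∈ T, X hW.good (bR 6) g * X hW.good (bR 7) g ∈ H := by
    intro g hg
    have := b2_comm_mem (hW := hW) (t := g) (y := 1) (z := 0) (w := 0)
      (by
        rw [X_zero, one_mul, ← mem_params,
          O.params_orbit (top := bR 7) b2_orbit.1 (show longB2 (bR 4 : ℕ) = true by decide)]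
        exact hg)
      (by rw [X_zero, mul_one]; exact O.one_mem' _)
    simpa using this
  have hsq : ∀ g ∈ T, g ^ 2 ∈ T := fun g hg => by
    have := T.add_mem (b2_rule O (hd g hg)) (neg_mem hg)
    simpa using this
  have hbij : Set.BijOn (fun g : F => g ^ 2) (T : Set F) T :=
    (hfin.injOn_iff_bijOn_of_mapsTo fun g hg => hsq g hg).1 (frobenius_inj F 2).injOn
  refine mul_mem_of_artinSchreier hfin (O.one_mem' _) (fun g hg k hk => ?_) hx hy
  obtain ⟨v, hv, rfl⟩ := hbij.surjOn hk
  have := b2_rule O (b2_comm_mem (hW := hW) (t := g) (y := v) (z := 0) (w := v)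
    (by
      rw [X_zero, one_mul, ← mem_params,
        O.params_orbit (top := bR 7) b2_orbit.1 (show longB2 (bR 4 : ℕ) = true by decide)]
      exact hg)
    (b2_refl O (hd v hv)).1)
  show (g + g ^ 2) * v ^ 2 ∈ T
  convert this using 1
  ring

/-- In characteristic two the exceptional part of `H` is fixed. -/
theorem b2_exc_fixed (O : Over hW H) (σ : F →+* F)
    (hσ : ∀ t, X hW.good (bR 7) t ∈ H → σ t = t) {e : GL chevB2.Idx F} (he : e ∈ H)
    (hem : e ∈ rootGen hW.good F (excSet chevB2 [6, 7])) : gmap chevB2 σ e = e := by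
  obtain ⟨t, g, rfl⟩ := mem_pair_form hW (top := bR 7) (r0 := bR 6) (by decide) (by decide)
    b2_orbit.2.2 (rootGen_mono hW.good (fun r hr => by
      have := hr.2
      simp only [List.mem_cons, List.not_mem_nil, or_false] at this
      exact this.imp Fin.ext Fin.ext) hem)
  have hg := b2_rule O he
  have hu' : X hW.good (bR 6) t * X hW.good (bR 7) (t ^ 2) ∈ H := by
    have := mul_mem he (mem_params.1 hg)
    rwa [mul_assoc, X_mul, ← add_assoc, show g + g = 0 from add_eq_zero_iff_eq_neg.2 (b2_neg g).symm,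
      zero_add] at this
  obtain ⟨hQ, hP⟩ := b2_refl O hu'
  have h1 := hσ _ (b2_rule O (b2_comm_mem (hW := hW) hP
    (y := 1) (w := 0) (by rw [X_zero, mul_one]; exact O.one_mem' _)))
  have h2 := hσ _ (b2_rule O (b2_comm_mem (hW := hW) hP hQ))
  simp only [mul_one, one_pow] at h1
  simp only [map_add, map_mul, map_pow] at h1 h2
  set x := t ^ 2 with hx
  set s := σ t ^ 2 with hs
  have h1' : s + s ^ 2 = x + x ^ 2 := h1
  have h2' : s * (s + s ^ 2) = x * (x + x ^ 2) := by
    linear_combination h2
  have hsx : s = x := by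
    by_cases h0 : x + x ^ 2 = 0
    · have hid : ∀ v : F, v + v ^ 2 = 0 → v = 0 ∨ v = 1 := by
        intro v hv
        rcases mul_eq_zero.1 (show v * (v + 1) = 0 by linear_combination hv) with h | h
        · exact Or.inl h
        · exact Or.inr (by rw [← b2_neg v]; linear_combination -h)
      rcases hid x h0 with e | e
      · have : t = 0 := by simpa [hx] using e
        rw [hs, this, map_zero, e]; simp
      · have : t = 1 := frobenius_inj F 2 (show t ^ 2 = 1 ^ 2 by rw [one_pow, ← hx, e])
        rw [hs, this, map_one, e, one_pow]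
    · rw [h1'] at h2'
      exact mul_right_cancel₀ h0 h2'
  have ht : σ t = t := frobenius_inj F 2 hsx
  have hgf : σ g = g := by
    have h3 := hσ _ hg
    rw [map_add, map_pow, ht] at h3
    exact add_right_cancel h3
  rw [map_mul, X_map, X_map, ht, hgf]

end CharTwo

end CfsgLib.SubfieldOver
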