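import Cfsg.Agent.SubfieldOver.Checks
import Cfsg.Prelude.Def_ChevG2
import Cfsg.Prelude.Def_ChevB2
import Cfsg.Prelude.Def_ChevD4
import Cfsg.Prelude.Def_ChevF4
import Cfsg.Prelude.Def_ChevE6
import Cfsg.Prelude.Def_ChevE7
import Cfsg.Prelude.Def_ChevE8

/-!
# Kernel evaluation of the climbing checks
-/

set_option autoImplicit false

namespace CfsgLib.SubfieldOver

open Cfsg.Lie

set_option maxRecDepth 100000
set_option maxHeartbeats 4000000

theorem chevG2_inj : chkWtInj chevG2 = true := by decide +kernel
theorem chevB2_inj : chkWtInj chevB2 = true := by decide +kernel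
theorem chevD4_inj : chkWtInj chevD4 = true := by decide +kernel
theorem chevF4_inj : chkWtInj chevF4 = true := by decide +kernel
theorem chevE6_inj : chkWtInj chevE6 = true := by decide +kernel
theorem chevE7_inj : chkWtInj chevE7 = true := by decide +kernel
theorem chevE8_inj : chkWtInj chevE8 = true := by decide +kernel

theorem chevG2_climb : (chkClimb chevG2 2 [11] && chkClimb chevG2 3 [9, 11] && chkClimb chevG2 5 [11] &&
    chkCentral chevG2 2 11 && chkCentral chevG2 3 11 && chkCentral chevG2 5 11 &&
    chkCentral chevG2 3 9) = true := by decide +kernel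
theorem chevB2_climb : (chkClimb chevB2 2 [6, 7] && chkClimb chevB2 3 [7] && chkClimb chevB2 5 [7] &&
    chkCentral chevB2 2 7 && chkCentral chevB2 3 7 && chkCentral chevB2 5 7 &&
    chkCentral chevB2 2 6) = true := by decide +kernel
theorem chevD4_climb : (chkClimb chevD4 2 [23] && chkClimb chevD4 3 [23] && chkClimb chevD4 5 [23] &&
    chkCentral chevD4 2 23 && chkCentral chevD4 3 23 && chkCentral chevD4 5 23) = true := by
  decide +kernel
theorem chevF4_climb : (chkClimb chevF4 2 [44, 47] && chkClimb chevF4 3 [47] && chkClimb chevF4 5 [47] &&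
    chkCentral chevF4 2 47 && chkCentral chevF4 3 47 && chkCentral chevF4 5 47 &&
    chkCentral chevF4 2 44) = true := by decide +kernel
theorem chevE6_climb : (chkClimb chevE6 2 [71] && chkClimb chevE6 3 [71] && chkClimb chevE6 5 [71] &&
    chkCentral chevE6 2 71 && chkCentral chevE6 3 71 && chkCentral chevE6 5 71) = true := by
  decide +kernel
theorem chevE7_climb : (chkClimb chevE7 2 [125] && chkClimb chevE7 3 [125] && chkClimb chevE7 5 [125] &&
    chkCentral chevE7 2 125 && chkCentral chevE7 3 125 && chkCentral chevE7 5 125) = true := by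
  decide +kernel
theorem chevE8_climb : (chkClimb chevE8 2 [239] && chkClimb chevE8 3 [239] && chkClimb chevE8 5 [239] &&
    chkCentral chevE8 2 239 && chkCentral chevE8 3 239 && chkCentral chevE8 5 239) = true := by
  decide +kernel

end CfsgLib.SubfieldOver
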