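import Cfsg.Agent.SubfieldOver.Main
import Cfsg.Agent.SubfieldOver.SpecialB2
import Cfsg.Agent.SubfieldOver.Tables
import Cfsg.Agent.Chevalley.WeylData
import Cfsg.Agent.ChevSubfield.RootData

/-!
# The seven types
-/

set_option autoImplicit false

namespace CfsgLib.SubfieldOver

open Cfsg.Lie CfsgLib CfsgLib.Chevalley
open CfsgLib.ChevSubfield (gmap fixElem)
open scoped MatrixGroups

variable {D : ChevalleyDatum} {F : Type*} [Field F]

/-- The conclusion for one datum. -/
def Goal (D : ChevalleyDatum) (F : Type*) [Field F] (p : ℕ) [Fact p.Prime] [CharP F p] : Prop :=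
  ∀ (hW : GoodWeyl D) (H : Subgroup (GL D.Idx F)), Over hW H → Finite H →
    ∃ (S : Subfield F) (n : ℕ), 1 ≤ n ∧ Nat.card S = p ^ n ∧ (∀ t, t ∈ S ↔ t ^ p ^ n = t) ∧
      (∀ r t, t ^ p ^ n = t → X hW.good r t ∈ H) ∧
      ∀ g ∈ H, gmap D (iterateFrobenius F p n) g = g

variable (p : ℕ) [Fact p.Prime] [CharP F p]

/-- The characteristic to use in the climbing checks. -/
def qOf (p : ℕ) : ℕ := min p 5

theorem qOf_cases : qOf p = 2 ∧ p = 2 ∨ qOf p = 3 ∧ p = 3 ∨ qOf p = 5 ∧ 5 ≤ p := by
  have hp := (Fact.out : p.Prime)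
  have h2 := hp.two_le
  have h4 : p ≠ 4 := fun e => by subst e; norm_num at hp
  rcases le_or_gt 5 p with h | h
  · exact Or.inr (Or.inr ⟨min_eq_right h, h⟩)
  · have e : qOf p = p := min_eq_left h.le
    omega

theorem cast_ne_of (n : ℤ) (h3 : n.natAbs ≤ 3) (hq : n.natAbs % qOf p ≠ 0) : (n : F) ≠ 0 := by
  rw [Ne, CharP.intCast_eq_zero_iff F p, Int.natCast_dvd]
  rcases qOf_cases p with ⟨e, rfl⟩ | ⟨e, rfl⟩ | ⟨e, hp5⟩
  · rw [e] at hq; omega
  · rw [e] at hq; omega
  · intro hd
    have : 0 < n.natAbs := by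
      by_contra h0
      simp [show n.natAbs = 0 by omega] at hq
    have := Nat.le_of_dvd this hd
    omega

/-- Characteristic data with one exceptional root. -/
theorem centreData_one {top : ℕ} (hinj : chkWtInj D = true) (hchk : chkTop D top = true)
    (hcl : chkClimb D (qOf p) [top] = true) (hc : chkCentral D (qOf p) top = true) :
    CentreData D F (qOf p) [top] := by
  refine ⟨hinj, hcl, by simpa using hc, fun n => cast_ne_of p n, fun n _ e he l hl hn => ?_⟩
  obtain rfl := List.mem_singleton.1 he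
  simp only [chkTop, List.all_eq_true, List.mem_range, List.isEmpty_iff] at hchk
  rw [hchk l hl] at hn
  simp at hn

/-- Characteristic data in the special characteristic. -/
theorem centreData_special {E : List ℕ} (hq : qOf p = p) (hinj : chkWtInj D = true)
    (hcl : chkClimb D (qOf p) E = true) (hc : ∀ e ∈ E, chkCentral D (qOf p) e = true) :
    CentreData D F (qOf p) E :=
  ⟨hinj, hcl, hc, fun n => cast_ne_of p n, fun n hn _ _ _ _ _ =>
    cast_natAbs_mod (p := p) (hq ▸ hn)⟩

/-- Root elements `X_{α_i}(1) X_{α_j}(1)` of commuting fundamental roots. -/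
theorem exists_pair (hW : GoodWeyl D) {C : Weyl.Cert D.rank} {M : CoxeterMatrix (Fin D.rank)}
    {R : Weyl.RootTable} (h : Weyl.RootGood C M R) [CharP F 2] {H : Subgroup (GL D.Idx F)}
    (O : Over hW H) {L : ℕ → Bool} {top : Root D} (hO : chkOrbit D L top = true)
    (hchk : chkTop D top = true) (hP : chkPair D = true) :
    ∃ b : GL D.Idx F, b ∈ H ∧ b ∈ D.posUnipotent F ∧ b * b = 1 ∧ b ≠ 1 ∧
      ∀ g ∈ D.group F, g * X hW.good top 1 * g⁻¹ ≠ b := by
  simp only [chkPair, List.any_eq_true, List.mem_range, Bool.and_eq_true, bne_iff_ne,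
    List.isEmpty_iff] at hP
  obtain ⟨i, hi, j, hj, hij, hnil⟩ := hP
  set a := pRoot hW ⟨i, hi⟩
  set c := pRoot hW ⟨j, hj⟩
  have hij' : (⟨i, hi⟩ : Fin D.rank) ≠ ⟨j, hj⟩ := fun e => hij (congrArg Fin.val e)
  have hca : c ≠ a := fun e => hij' (hW.good.genR_injective false e).symm
  have hrev : c ≠ a.rev := hW.good.rev_ne_of_key (b := false) (pRoot_pos hW _) (pRoot_pos hW _)
  have hcomm : Commute (X hW.good a (1 : F)) (X hW.good c 1) := by
    show _ * _ = _ * _
    symm
    rw [X_comm hW.toGoodComm a c hca hrev (1 : F) 1]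
    simp [commRhs, wordGL, show D.commTerms (a : ℕ) (c : ℕ) = [] from hnil]
  refine ⟨X hW.good a 1 * X hW.good c 1, mul_mem (O.one_mem' a) (O.one_mem' c),
    mul_mem (X_mem_pos hW.good (pRoot_pos hW _) _) (X_mem_pos hW.good (pRoot_pos hW _) _), ?_, ?_,
    not_conj_pair (hW := hW) h hO hchk hij'⟩
  · rw [hcomm.symm.mul_mul_mul_comm, X_mul, X_mul, CharTwo.add_self_eq_zero, X_zero, X_zero, mul_one]
  · intro e
    rw [mul_eq_one_iff_eq_inv, X_inv] at e
    exact X_ne hW.toGoodUni (Ne.symm hca) one_ne_zero (-1 : F) e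

/-- A short fundamental root element. -/
theorem exists_short (hW : GoodWeyl D) {C : Weyl.Cert D.rank} {M : CoxeterMatrix (Fin D.rank)}
    {R : Weyl.RootTable} (h : Weyl.RootGood C M R) [CharP F 2] {H : Subgroup (GL D.Idx F)}
    (O : Over hW H) {L : ℕ → Bool} {top : Root D} (hO : chkOrbit D L top = true)
    (hchk : chkTop D top = true) {i : Fin D.rank} (hL : L (pRoot hW i : Root D) = false) :
    ∃ b : GL D.Idx F, b ∈ H ∧ b ∈ D.posUnipotent F ∧ b * b = 1 ∧ b ≠ 1 ∧
      ∀ g ∈ D.group F, g * X hW.good top 1 * g⁻¹ ≠ b :=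
  ⟨X hW.good (pRoot hW i) 1, O.one_mem' _, X_mem_pos hW.good (pRoot_pos hW i) _,
    by rw [X_mul, CharTwo.add_self_eq_zero, X_zero], X_ne_one hW.good _ one_ne_zero,
    not_conj_short (hW := hW) h hO hchk (pRoot_pos hW i) hL⟩

omit [Fact p.Prime] [CharP F p] in
theorem rank_two_of (h : 2 ≤ D.rank) (i : Fin D.rank) : ∃ k, k ≠ i := by
  rcases Nat.eq_zero_or_pos (i : ℕ) with e | e
  · exact ⟨⟨1, h⟩, fun h' => by have := congrArg Fin.val h'; simp [e] at this⟩
  · exact ⟨⟨0, by omega⟩, fun h' => by have := congrArg Fin.val h'; simp at this; omega⟩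

omit [Fact p.Prime] [CharP F p] in
theorem common_facts {L : ℕ → Bool} {top : ℕ} (h : chkCommon D L top = true) :
    chkOrbit D L top = true ∧ chkTop D top = true ∧ top < D.nroots ∧ half D ≤ top := by
  simp only [chkCommon, Bool.and_eq_true] at h
  exact ⟨h.1.1.1.1, h.1.1.2, (orbit_lt h.1.1.1.1).1, (orbit_lt h.1.1.1.1).2.1⟩

/-- The simply laced types. -/
theorem goal_laced (hmem : D ∈ [chevG2, chevB2, chevD4, chevF4, chevE6, chevE7, chevE8]) {top : ℕ}
    (hrank : 2 ≤ D.rank) (hover : (chkCommon D longAll top && chkA2 D longAll && chkPair D) = true)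
    (hinj : chkWtInj D = true)
    (hcl : (chkClimb D 2 [top] && chkClimb D 3 [top] && chkClimb D 5 [top] &&
      chkCentral D 2 top && chkCentral D 3 top && chkCentral D 5 top) = true) : Goal D F p := by
  intro hW H O hfin
  obtain ⟨C, M, R, h⟩ := ChevSubfield.exists_rootGood hmem
  simp only [Bool.and_eq_true] at hover hcl
  obtain ⟨hO, hchk, hlt, hhalf⟩ := common_facts hover.1.1
  have hclq : chkClimb D (qOf p) [top] = true ∧ chkCentral D (qOf p) top = true := by
    rcases qOf_cases p with ⟨e, -⟩ | ⟨e, -⟩ | ⟨e, -⟩ <;> rw [e] <;> tauto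
  have P := centreData_one (F := F) p hinj hchk hclq.1 hclq.2
  obtain ⟨S, n, h1, h2, h3, -, h5, h6⟩ := exists_field_over (hW := hW) p h O
    (ChevParabolic.linkOk_of_mem hmem) (rank_two_of hrank) (top := (⟨top, hlt⟩ : Root D)) hover.1.1 P
    (fun x y hx hy => O.mul_closed_A2 hO hover.1.2 hx hy)
    (fun σ hσ e he hem => exc_fixed_one (hW := hW) P (top := (⟨top, hlt⟩ : Root D)) rfl σ hσ he hem)
    (fun hp => by subst hp; exact exists_pair hW h O hO hchk hover.2)
  exact ⟨S, n, h1, h2, h3, h5, h6⟩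

theorem chevD4_goal : Goal chevD4 F p :=
  goal_laced p (by simp) (by decide) chevD4_over chevD4_inj chevD4_climb
theorem chevE6_goal : Goal chevE6 F p :=
  goal_laced p (by simp) (by decide) chevE6_over chevE6_inj chevE6_climb
theorem chevE7_goal : Goal chevE7 F p :=
  goal_laced p (by simp) (by decide) chevE7_over chevE7_inj chevE7_climb
theorem chevE8_goal : Goal chevE8 F p :=
  goal_laced p (by simp) (by decide) chevE8_over chevE8_inj chevE8_climb

/-- `G₂` and `F₄`. -/
theorem goal_two_lengths (hmem : D ∈ [chevG2, chevB2, chevD4, chevF4, chevE6, chevE7, chevE8])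
    {L : ℕ → Bool} {top r0 i0 s : ℕ} (hs : s = 2 ∨ s = 3) (hrank : 2 ≤ D.rank)
    (hi0 : i0 < D.rank)
    (hover : (chkCommon D L top && chkA2 D L && chkOrbit D (fun r => !L r) r0 &&
      chkShortRel D s r0 top i0 && D.pairing r0 top == (s : ℤ) && !L (D.simple i0)) = true)
    (hinj : chkWtInj D = true)
    (hclg : ∀ q, (q = 2 ∨ q = 3 ∨ q = 5) → q ≠ s →
      chkClimb D q [top] = true ∧ chkCentral D q top = true)
    (hcls : chkClimb D s [r0, top] = true ∧ chkCentral D s r0 = true ∧ chkCentral D s top = true) :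
    Goal D F p := by
  intro hW H O hfin
  obtain ⟨C, M, R, h⟩ := ChevSubfield.exists_rootGood hmem
  simp only [Bool.and_eq_true, beq_iff_eq, Bool.not_eq_true'] at hover
  obtain ⟨⟨⟨⟨⟨hcom, hA⟩, hOs⟩, hrel⟩, hpair⟩, hLi⟩ := hover
  obtain ⟨hO, hchk, hlt, hhalf⟩ := common_facts hcom
  have hlink := ChevParabolic.linkOk_of_mem hmem
  have hmul : ∀ x y, x ∈ params hW.good H (⟨top, hlt⟩ : Root D) →
      y ∈ params hW.good H (⟨top, hlt⟩ : Root D) → x * y ∈ params hW.good H (⟨top, hlt⟩ : Root D) :=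
    fun x y hx hy => O.mul_closed_A2 hO hA hx hy
  have hb : p = 2 → ∃ b : GL D.Idx F, b ∈ H ∧ b ∈ D.posUnipotent F ∧ b * b = 1 ∧ b ≠ 1 ∧
      ∀ g ∈ D.group F, g * X hW.good (⟨top, hlt⟩ : Root D) 1 * g⁻¹ ≠ b := fun hp => by
    subst hp; exact exists_short hW h O hO hchk (i := ⟨i0, hi0⟩) hLi
  by_cases hps : p = s
  · have hq : qOf p = p := min_eq_left (by omega)
    have P : CentreData D F (qOf p) [r0, top] := centreData_special p hq hinj
      (by rw [hq, hps]; exact hcls.1) (by rw [hq, hps]; simpa using ⟨hcls.2.1, hcls.2.2⟩)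
    have S : ShortData hW p L (⟨top, hlt⟩ : Root D) ⟨r0, (orbit_lt hOs).1⟩ ⟨i0, hi0⟩ :=
      { small := hps ▸ hs, orbit := hOs, rel := hps ▸ hrel, simple := hLi,
        pairing := hps ▸ hpair, top_chk := hchk, top_pos := hhalf }
    obtain ⟨S', n, h1, h2, h3, -, h5, h6⟩ := exists_field_over (hW := hW) p h O hlink (rank_two_of hrank)
      (top := (⟨top, hlt⟩ : Root D)) hcom P hmul
      (fun σ hσ e he hem => S.exc_fixed O σ hσ rfl he hem) hb
    exact ⟨S', n, h1, h2, h3, h5, h6⟩
  · obtain ⟨hc1, hc2⟩ := hclg (qOf p)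
      (by rcases qOf_cases p with h' | h' | h' <;> omega)
      (by rcases qOf_cases p with h' | h' | h' <;> omega)
    have P := centreData_one (F := F) p hinj hchk hc1 hc2
    obtain ⟨S', n, h1, h2, h3, -, h5, h6⟩ := exists_field_over (hW := hW) p h O hlink (rank_two_of hrank)
      (top := (⟨top, hlt⟩ : Root D)) hcom P hmul
      (fun σ hσ e he hem => exc_fixed_one (hW := hW) P (top := (⟨top, hlt⟩ : Root D)) rfl σ hσ he hem) hb
    exact ⟨S', n, h1, h2, h3, h5, h6⟩

theorem chevG2_goal : Goal chevG2 F p := by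
  have hc := chevG2_climb
  simp only [Bool.and_eq_true] at hc
  refine goal_two_lengths p (by simp) (Or.inr rfl) (by decide) (by decide) chevG2_over chevG2_inj
    (fun q hq hne => ?_) ⟨by tauto, by tauto, by tauto⟩
  rcases hq with rfl | rfl | rfl
  exacts [⟨by tauto, by tauto⟩, absurd rfl hne, ⟨by tauto, by tauto⟩]

theorem chevF4_goal : Goal chevF4 F p := by
  have hc := chevF4_climb
  simp only [Bool.and_eq_true] at hc
  refine goal_two_lengths p (by simp) (Or.inl rfl) (by decide) (by decide) chevF4_over chevF4_inj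
    (fun q hq hne => ?_) ⟨by tauto, by tauto, by tauto⟩
  rcases hq with rfl | rfl | rfl
  exacts [absurd rfl hne, ⟨by tauto, by tauto⟩, ⟨by tauto, by tauto⟩]

theorem chevB2_goal : Goal chevB2 F p := by
  intro hW H O hfin
  have hmem : chevB2 ∈ [chevG2, chevB2, chevD4, chevF4, chevE6, chevE7, chevE8] := by simp
  obtain ⟨C, M, R, h⟩ := ChevSubfield.exists_rootGood hmem
  have hcom := b2_facts.1
  obtain ⟨hO, hchk, -, -⟩ := common_facts hcom
  have hc := chevB2_climb
  simp only [Bool.and_eq_true] at hc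
  have hlink := ChevParabolic.linkOk_of_mem hmem
  have hrank := rank_two_of (D := chevB2) (by decide)
  by_cases hp : p = 2
  · subst hp
    have hq : qOf 2 = 2 := rfl
    have P : CentreData chevB2 F (qOf 2) [6, 7] := centreData_special 2 hq chevB2_inj
      (by rw [hq]; tauto) (by rw [hq]; simp; tauto)
    obtain ⟨S, n, h1, h2, h3, -, h5, h6⟩ := exists_field_over (hW := hW) 2 h O hlink hrank (top := bR 7)
      hcom P (fun x y hx hy => b2_mul_two O hx hy)
      (fun σ hσ e he hem => b2_exc_fixed O σ hσ he hem)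
      (fun _ => exists_short hW h O hO hchk (i := ⟨0, by decide⟩) (show longB2 (chevB2.simple 0) = false from by
        have := chevB2_over
        simp only [Bool.and_eq_true, Bool.not_eq_true'] at this
        tauto))
    exact ⟨S, n, h1, h2, h3, h5, h6⟩
  · have hq : qOf p = 3 ∨ qOf p = 5 := by rcases qOf_cases p with h' | h' | h' <;> omega
    have P : CentreData chevB2 F (qOf p) [7] := centreData_one p chevB2_inj hchk
      (by rcases hq with e | e <;> rw [e] <;> tauto) (by rcases hq with e | e <;> rw [e] <;> tauto)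
    obtain ⟨S, n, h1, h2, h3, -, h5, h6⟩ := exists_field_over (hW := hW) p h O hlink hrank (top := bR 7)
      hcom P (fun x y hx hy => b2_mul_odd p hp O hx hy)
      (fun σ hσ e he hem => exc_fixed_one (hW := hW) P (top := bR 7) rfl σ hσ he hem)
      (fun e => absurd e hp)
    exact ⟨S, n, h1, h2, h3, h5, h6⟩

/-- A finite subgroup containing all `x_r(1)` lies between a group over a finite field and its
fixed points. -/
theorem exists_field_of_mem (hmem : D ∈ [chevG2, chevB2, chevD4, chevF4, chevE6, chevE7, chevE8]) :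
    Goal D F p := by
  simp only [List.mem_cons, List.not_mem_nil, or_false] at hmem
  rcases hmem with rfl | rfl | rfl | rfl | rfl | rfl | rfl
  exacts [chevG2_goal p, chevB2_goal p, chevD4_goal p, chevF4_goal p, chevE6_goal p, chevE7_goal p,
    chevE8_goal p]

end CfsgLib.SubfieldOver
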