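import Cfsg.Agent.ChevUnip.Parabolic
import Cfsg.Agent.ChevSubfield.Fixed
import Cfsg.Agent.ChevParabolic.RadicalCentralizer

/-!
# Fixed parabolic cosets, and elements centralizing `x_r(1)` for the roots of a radical

A coset of `B`, or of a standard parabolic subgroup, fixed by a field endomorphism has a
representative generated by root elements with fixed parameters.  An element commuting with all
`x_r(1)`, `r` in the radical of a proper parabolic subgroup, lies in `B`.
-/

set_option autoImplicit false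

namespace CfsgLib.SubfieldOver

open Cfsg.Lie CfsgLib CfsgLib.Chevalley
open CfsgLib.ChevSubfield (gmap fixElem)
open CfsgLib.ChevParabolic (linkOk)
open scoped MatrixGroups

variable {D : ChevalleyDatum} {F : Type*} [Field F]
variable {C : Weyl.Cert D.rank} {M : CoxeterMatrix (Fin D.rank)} {R : Weyl.RootTable}

theorem exists_fixed_borel_rep (σ : F →+* F) (hW : GoodWeyl D) (h : Weyl.RootGood C M R)
    {g : GL D.Idx F} (hg : g ∈ D.group F) (hf : g⁻¹ * gmap D σ g ∈ D.borelSubgroup F) :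
    ∃ l ∈ fixElem hW.good σ, l⁻¹ * g ∈ D.borelSubgroup F := by
  obtain ⟨w, hw⟩ := exists_mem_cell hW h hg
  clear hg
  induction hn : M.toCoxeterSystem.length w using Nat.strong_induction_on generalizing w g with
  | _ n ih =>
    by_cases hw1 : w = 1
    · subst hw1
      rw [cell_one hW h] at hw
      exact ⟨1, one_mem _, by simpa using hw⟩
    · obtain ⟨i, v, rfl, hv, hl⟩ := ChevSubfield.exists_goesUp_of_ne_one hW h hw1
      obtain ⟨t, c, hc, rfl⟩ := ChevSubfield.exists_coord hW h hw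
      set b := (X hW.good (pRoot hW i) t * nR hW i * c)⁻¹ *
        gmap D σ (X hW.good (pRoot hW i) t * nR hW i * c) with hb
      have e : X hW.good (pRoot hW i) (σ t) * nR hW i * gmap D σ c =
          X hW.good (pRoot hW i) t * nR hW i * (c * b) := by
        rw [hb, map_mul, map_mul, X_map, nR_map]
        group
      have ht := ChevSubfield.coord_unique hW h hv (ChevSubfield.gmap_mem_cell σ hW h hc)
        (cell_mul_borel_mem hW h hc hf) e
      rw [ht] at e
      have hcb : c⁻¹ * gmap D σ c ∈ D.borelSubgroup F := by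
        rw [mul_left_cancel e, inv_mul_cancel_left]
        exact hf
      obtain ⟨l, hl', hlc⟩ := ih _ (by omega) hcb v hc rfl
      refine ⟨X hW.good (pRoot hW i) t * nR hW i * l,
        mul_mem (mul_mem (ChevSubfield.X_mem_fixElem σ _ _ ht)
          (ChevSubfield.nR_mem_fixElem σ hW i)) hl', ?_⟩
      rwa [show (X hW.good (pRoot hW i) t * nR hW i * l)⁻¹ *
        (X hW.good (pRoot hW i) t * nR hW i * c) = l⁻¹ * c by group]

/-- A parabolic coset fixed by `σ` contains a fixed element. -/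
theorem exists_fixed_parabolic_rep (σ : F →+* F) (hW : GoodWeyl D) (h : Weyl.RootGood C M R)
    (J : Finset (Fin D.rank)) {g : GL D.Idx F} (hg : g ∈ D.group F)
    (hf : g⁻¹ * gmap D σ g ∈ ChevUnip.PJ hW F J) :
    ∃ l ∈ fixElem hW.good σ, l⁻¹ * g ∈ ChevUnip.PJ hW F J := by
  have hmem : (g : GL D.Idx F ⧸ ChevUnip.PJ hW F J) ∈ ChevUnip.pjCosets hW F Finset.univ J :=
    ⟨g, by rw [ChevUnip.PJ_univ]; exact hg, rfl⟩
  obtain ⟨w, hw, hmin, x, hx, hxe⟩ := ChevUnip.exists_proj_of_mem hW h (Finset.subset_univ J) hmem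
  obtain ⟨g', hg', rfl⟩ := hx
  rw [ChevUnip.projPJ_mk, QuotientGroup.eq] at hxe
  have hg'G : g' ∈ D.group F := cell_subset_group hW h hg'
  have hσ : ChevUnip.projPJ hW J ((gmap D σ g' : GL D.Idx F) : GL D.Idx F ⧸ D.borelSubgroup F) =
      ChevUnip.projPJ hW J ((g' : GL D.Idx F) : GL D.Idx F ⧸ D.borelSubgroup F) := by
    rw [ChevUnip.projPJ_mk, ChevUnip.projPJ_mk, QuotientGroup.eq]
    have h1 : gmap D σ (g'⁻¹ * g) ∈ ChevUnip.PJ hW F J := by
      have hJ : ∀ p ∈ ChevUnip.PJ hW F J, gmap D σ p ∈ ChevUnip.PJ hW F J := by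
        intro p hp
        obtain ⟨v, hv, hpv⟩ := ChevUnip.exists_cell_of_mem_PJ hW h hp
        exact ChevUnip.cell_subset_PJ hW h hv (ChevSubfield.gmap_mem_cell σ hW h hpv)
      exact hJ _ hxe
    rw [show (gmap D σ g')⁻¹ * g' = gmap D σ (g'⁻¹ * g) * (g⁻¹ * gmap D σ g)⁻¹ * (g'⁻¹ * g)⁻¹ by
      rw [map_mul, map_inv]; group]
    exact mul_mem (mul_mem h1 (inv_mem hf)) (inv_mem hxe)
  obtain ⟨-, e⟩ := ChevUnip.eq_of_proj_eq hW h hmin hmin
    ⟨_, ChevSubfield.gmap_mem_cell σ hW h hg', rfl⟩ ⟨_, hg', rfl⟩ hσ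
  obtain ⟨l, hl, hlb⟩ := exists_fixed_borel_rep σ hW h hg'G (by
    rw [show g'⁻¹ * gmap D σ g' = ((gmap D σ g')⁻¹ * g')⁻¹ by group]
    exact inv_mem (QuotientGroup.eq.1 e))
  refine ⟨l, hl, ?_⟩
  rw [show l⁻¹ * g = (l⁻¹ * g') * (g'⁻¹ * g) by group]
  exact mul_mem (ChevUnip.borel_le_PJ hW J hlb) hxe

/-- The later roots of the radical span a subgroup invariant under `U`. -/
theorem X_conj_radFrom (hW : GoodWeyl D) {J : Set (Fin D.rank)} {a : Root D}
    (ha : half D ≤ (a : ℕ)) (v : F) : ∀ k m, D.nroots ≤ m + k → ∀ g ∈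
      rootGen hW.good F (radJ D J ∩ {r | m ≤ (r : ℕ)}),
      X hW.good a v * g * (X hW.good a v)⁻¹ ∈
        rootGen hW.good F (radJ D J ∩ {r | m ≤ (r : ℕ)}) := by
  intro k
  induction k with
  | zero =>
    intro m hm g hg
    have : g ∈ (⊥ : Subgroup (GL D.Idx F)) :=
      rootGen_le hW.good (fun r hr t => absurd (Nat.le_trans hm hr.2) (by simpa using r.isLt)) hg
    rw [Subgroup.mem_bot] at this
    simp [this]
  | succ k ih =>
    intro m hm g hg
    refine (rootGen_le hW.good (K := (rootGen hW.good F (radJ D J ∩ {r | m ≤ (r : ℕ)})).comap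
      (MulAut.conj (X hW.good a v)).toMonoidHom) fun c hc w => ?_) hg
    show X hW.good a v * X hW.good c w * (X hW.good a v)⁻¹ ∈
      rootGen hW.good F (radJ D J ∩ {r | m ≤ (r : ℕ)})
    rcases eq_or_ne a c with rfl | hac
    · rw [X_mul, X_inv, X_mul, show v + w + -v = w by ring]
      exact X_mem_rootGen _ hc _
    rw [X_comm hW.toGoodComm c a hac (hW.good.rev_ne_of_key (b := false) hc.1.1 ha) w v,
      show ∀ p q W : GL D.Idx F, p * q * W * q⁻¹ = p * (q * W * q⁻¹) from fun p q W => by group]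
    refine mul_mem (X_mem_rootGen _ hc _) (rootGen_mono hW.good
      (fun r hr => show r ∈ radJ D J ∧ m ≤ (r : ℕ) from ⟨hr.1, by
        have : m + 1 ≤ (r : ℕ) := hr.2; omega⟩) (ih (m + 1) (by omega) _ ?_))
    refine Subgroup.list_prod_mem _ fun x hx => ?_
    simp only [List.map_map, List.mem_map] at hx
    obtain ⟨e, he, rfl⟩ := hx
    obtain ⟨hh, h1, h2⟩ := commTerms_radJ hW hc.1 ha he
    simp only [Function.comp_apply, dif_pos hh]
    refine X_mem_rootGen _ (S := radJ D J ∩ {r | m + 1 ≤ (r : ℕ)}) ⟨h1, ?_⟩ _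
    have hcm : m ≤ (c : ℕ) := hc.2
    show m + 1 ≤ e.1
    omega

/-- Conjugation by `U` moves `x_r(t)` by later roots of the radical only. -/
theorem conj_rad_mod (hW : GoodWeyl D) {J : Set (Fin D.rank)} {r : Root D} (hr : r ∈ radJ D J)
    (t : F) {v : GL D.Idx F} (hv : v ∈ D.posUnipotent F) :
    (X hW.good r t)⁻¹ * (v * X hW.good r t * v⁻¹) ∈
      rootGen hW.good F (radJ D J ∩ {c | (r : ℕ) + 1 ≤ (c : ℕ)}) := by
  set Q := rootGen hW.good F (radJ D J ∩ {c : Root D | (r : ℕ) + 1 ≤ (c : ℕ)}) with hQ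
  set x := X hW.good r t
  have hinv : ∀ y ∈ D.posUnipotent F, ∀ g ∈ Q, y * g * y⁻¹ ∈ Q ∧ y⁻¹ * g * y ∈ Q := by
    intro y hy
    rw [posUnipotent_eq_rootGen hW.good] at hy
    induction hy using Subgroup.closure_induction with
    | mem y hy =>
      obtain ⟨s, hs, u, rfl⟩ := hy
      refine fun g hg => ⟨X_conj_radFrom hW hs u D.nroots _ (by omega) g hg, ?_⟩
      rw [X_inv]
      have := X_conj_radFrom hW (J := J) hs (-u) D.nroots ((r : ℕ) + 1) (by omega) g hg
      rwa [X_inv, neg_neg] at this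
    | one => simp
    | mul p q _ _ ihp ihq =>
      refine fun g hg => ⟨?_, ?_⟩
      · rw [show p * q * g * (p * q)⁻¹ = p * (q * g * q⁻¹) * p⁻¹ by group]
        exact (ihp _ (ihq g hg).1).1
      · rw [show (p * q)⁻¹ * g * (p * q) = q⁻¹ * (p⁻¹ * g * p) * q by group]
        exact (ihq _ (ihp g hg).2).2
    | inv p _ ih =>
      exact fun g hg => ⟨by rw [inv_inv]; exact (ih g hg).2, by rw [inv_inv]; exact (ih g hg).1⟩
  have hvU := hv
  rw [posUnipotent_eq_rootGen hW.good] at hv
  induction hv using Subgroup.closure_induction with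
  | mem y hy =>
    obtain ⟨s, hs, u, rfl⟩ := hy
    rcases eq_or_ne s r with rfl | hne
    · rw [show x⁻¹ * (X hW.good s u * x * (X hW.good s u)⁻¹) = 1 by
        simp only [x, X_mul, X_inv]
        rw [show -t + (u + t + -u) = 0 by ring, X_zero]]
      exact one_mem _
    rw [X_comm hW.toGoodComm r s hne (hW.good.rev_ne_of_key (b := false) hr.1 hs) t u,
      show x⁻¹ * (x * X hW.good s u * commRhs hW.good r s t u * (X hW.good s u)⁻¹) =
        X hW.good s u * commRhs hW.good r s t u * (X hW.good s u)⁻¹ by group]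
    refine (hinv _ (X_mem_pos hW.good hs u) _ ?_).1
    refine Subgroup.list_prod_mem _ fun y hy => ?_
    simp only [List.map_map, List.mem_map] at hy
    obtain ⟨e, he, rfl⟩ := hy
    obtain ⟨hh, h1, h2⟩ := commTerms_radJ hW hr hs he
    simp only [Function.comp_apply, dif_pos hh]
    exact X_mem_rootGen _ (S := radJ D J ∩ {c : Root D | (r : ℕ) + 1 ≤ (c : ℕ)}) ⟨h1, h2⟩ _
  | one => simp
  | mul p q hp hq ihp ihq =>
    change p ∈ rootGen hW.good F (posSet D) at hp
    change q ∈ rootGen hW.good F (posSet D) at hq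
    rw [← posUnipotent_eq_rootGen hW.good] at hp hq
    have ep := ihp hp
    have eq' := ihq hq
    rw [show x⁻¹ * (p * q * x * (p * q)⁻¹) =
      x⁻¹ * (p * x * p⁻¹) * (p * (x⁻¹ * (q * x * q⁻¹)) * p⁻¹) by group]
    exact mul_mem ep (hinv _ hp _ eq').1
  | inv p hp ih =>
    change p ∈ rootGen hW.good F (posSet D) at hp
    rw [← posUnipotent_eq_rootGen hW.good] at hp
    rw [show x⁻¹ * (p⁻¹ * x * p⁻¹⁻¹) = p⁻¹ * (x⁻¹ * (p * x * p⁻¹))⁻¹ * p by group]
    exact (hinv _ hp _ (inv_mem (ih hp))).2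

/-- An element commuting with all `x_r(1)`, `r` in the radical of a proper parabolic subgroup,
lies in `B`. -/
theorem mem_borel_of_comm_rad (hW : GoodWeyl D) (h : Weyl.RootGood C M R) (hok : linkOk D = true)
    {J : Set (Fin D.rank)} {i₀ : Fin D.rank} (hJ : i₀ ∉ J) {g : GL D.Idx F} (hg : g ∈ D.group F)
    (hc : ∀ r ∈ radJ D J, Commute g (X hW.good r (1 : F))) : g ∈ D.borelSubgroup F := by
  obtain ⟨u, hu, y, hy, w, u', hu', rfl⟩ := ChevInvol.exists_bruhat hW h hg
  -- the roots of the radical are fixed by `w`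
  have hwfix : ∀ k : ℕ, ∀ r ∈ radJ D J, D.nroots ≤ (r : ℕ) + k → h.rootPerm w r = r := by
    intro k
    induction k with
    | zero => exact fun r _ hk => absurd hk (by have := r.isLt; omega)
    | succ k ih =>
      intro r hr hk
      by_cases hk' : D.nroots ≤ (r : ℕ) + k
      · exact ih r hr hk'
      obtain ⟨c, hcc⟩ := (monBy_nW (F := F) hW h w).conj_X r
      obtain ⟨e, hee⟩ := diag_conj_X hW hy (h.rootPerm w r)
      set R₁ := (X hW.good r (1 : F))⁻¹ * (u' * X hW.good r 1 * u'⁻¹) with hR₁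
      have hR₁m := conj_rad_mod hW hr (1 : F) hu'
      have hS : ∀ s ∈ radJ D J ∩ {c : Root D | (r : ℕ) + 1 ≤ (c : ℕ)}, h.rootPerm w s = s :=
        fun s hs => ih s hs.1 (by have : (r : ℕ) + 1 ≤ (s : ℕ) := hs.2; omega)
      have hR₁n : y * (nW hW h F w * R₁ * (nW hW h F w)⁻¹) * y⁻¹ ∈
          uGe hW.good F false ((r : ℕ) + 1) := by
        have h1 : nW hW h F w * R₁ * (nW hW h F w)⁻¹ ∈
            rootGen hW.good F (radJ D J ∩ {c : Root D | (r : ℕ) + 1 ≤ (c : ℕ)}) :=
          (monBy_nW (F := F) hW h w).conj_rootGen (fun s hs => by rw [hS s hs]; exact hs) hR₁m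
        have h2 := ((Subgroup.mem_normalizer_iff.1 (diag_le_normalizer_rootGen hW _ hy)) _).1 h1
        refine rootGen_le hW.good (fun s hs t => ?_) h2
        exact X_mem_uGe hW.good (b := false) hs.1.1 (show (r : ℕ) + 1 ≤ key false s from hs.2) t
      have hR₂ : (X hW.good r (1 : F))⁻¹ * (u⁻¹ * X hW.good r 1 * u) ∈
          uGe hW.good F false ((r : ℕ) + 1) := ChevParabolic.conj_pos_mod hW.toGoodComm hr.1 1 hu
      have e1 : X hW.good (h.rootPerm w r) ((e : F) * ((c : F) * 1)) =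
          X hW.good r 1 * ((X hW.good r (1 : F))⁻¹ * (u⁻¹ * X hW.good r 1 * u) *
            (y * (nW hW h F w * R₁ * (nW hW h F w)⁻¹) * y⁻¹)⁻¹) := by
        rw [← hee, ← hcc, hR₁, eq_comm]
        have := (hc r hr).eq
        calc X hW.good r 1 * ((X hW.good r (1 : F))⁻¹ * (u⁻¹ * X hW.good r 1 * u) *
              (y * (nW hW h F w * ((X hW.good r (1 : F))⁻¹ * (u' * X hW.good r 1 * u'⁻¹)) *
                (nW hW h F w)⁻¹) * y⁻¹)⁻¹)
            = u⁻¹ * (X hW.good r 1 * (u * y * nW hW h F w * u')) * (X hW.good r (1 : F))⁻¹ *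
                u'⁻¹ * X hW.good r 1 * (nW hW h F w)⁻¹ * y⁻¹ := by group
          _ = _ := by rw [← this]; group
      have hz := mul_mem hR₂ (inv_mem hR₁n)
      have hpos : half D ≤ (h.rootPerm w r : ℕ) := by
        refine key_of_X_mem (b := false) hW.toGoodUni (t := (e : F) * ((c : F) * 1)) (by simp)
          (m := half D) ?_
        rw [e1]
        exact mul_mem (X_mem_uGe hW.good (b := false) hr.1 hr.1 _)
          (uGe_mono hW.good (by have := hr.1; omega) hz)
      exact (ChevParabolic.eq_of_X_mul hW.toGoodUni hr.1 hpos (by simp) one_ne_zero hz e1).1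
  have hfix : ∀ r ∈ radJ D J, h.rootPerm w r = r := fun r hr =>
    hwfix D.nroots r hr (by omega)
  -- hence the fundamental roots stay positive
  have hi0 : pRoot hW i₀ ∈ radJ D J := ⟨pRoot_pos hW i₀, fun hm => by
    have := hm i₀ hJ
    simp [ChevTorus.co_pRoot hW] at this⟩
  have hsimple : ∀ j : Fin D.rank, half D ≤ (h.rootPerm w (pRoot hW j) : ℕ) := by
    intro j
    by_cases hj : j = i₀
    · subst hj; rw [hfix _ hi0]; exact pRoot_pos hW j
    obtain ⟨r, s, hr, hs, e⟩ :=
      ChevParabolic.linkOk_spec hW.toGoodComm hok (Ne.symm hj) hJ (hW.good.simple_lt j.isLt)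
    have hl := wt_map_linear hW (ChevParabolic.mem_reflGroup_rootPerm hW h w) (a := Sum.inr r)
      (b := Sum.inr s) (c := Sum.inr (pRoot hW j)) (x := 1) (y := -1)
      (fun l => by simp only [wt_inr, genR, gen]; rw [e l]; simp)
    rw [hW.good.pos_iff_ht]
    have heq : ht D (Sum.inr (h.rootPerm w (pRoot hW j))) = ht D (Sum.inr (pRoot hW j)) := by
      simp only [ht]
      refine Finset.sum_congr rfl fun l _ => ?_
      have := hl l
      simp only [Sum.map_inr, hfix r hr, hfix s hs] at this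
      rw [this]
      simp only [wt_inr, genR, gen]
      rw [e l]; simp
    rw [heq]
    exact (hW.good.pos_iff_ht _).1 (pRoot_pos hW j)
  have hw1 : w = 1 := h.eq_one_of_invSet_empty (h.invSet_eq_empty fun j => by
    rw [posIdx_iff hW.good h, simpleRoot_eq hW h]; exact hsimple j)
  subst hw1
  refine mul_mem (mul_mem (mul_mem (pos_le_borel D hu) (diag_le_borel D hy)) ?_) (pos_le_borel D hu')
  have := nW_mem_cell (F := F) hW h 1
  rwa [cell_one hW h] at this

end CfsgLib.SubfieldOver
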