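import Cfsg.Agent.SubfieldOver.Optimal
import Cfsg.Agent.SubfieldOver.Flags
import Cfsg.Agent.ChevTorus.Scaling

/-!
# A subgroup with fixed unipotent part: its local subgroups are fixed

`H` contains the root elements with fixed parameters and every element of `H ∩ U` is fixed by `σ`.
Then `H ∩ B`, `H ∩ P_J` for a proper `J`, and the centralizer in `H` of a fixed element conjugate
into `U` are fixed.
-/

set_option autoImplicit false

namespace CfsgLib.SubfieldOver

open Cfsg.Lie CfsgLib CfsgLib.Chevalley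
open CfsgLib.ChevSubfield (gmap fixElem)
open CfsgLib.ChevParabolic (linkOk)
open scoped MatrixGroups

variable {D : ChevalleyDatum} {F : Type*} [Field F]
variable {C : Weyl.Cert D.rank} {M : CoxeterMatrix (Fin D.rank)} {R : Weyl.RootTable}

/-- The standing hypotheses. -/
structure Setting (hW : GoodWeyl D) (σ : F →+* F) (H : Subgroup (GL D.Idx F)) : Prop where
  le_group : H ≤ D.group F
  fix_le : fixElem hW.good σ ≤ H
  pos_fix : ∀ u ∈ H, u ∈ D.posUnipotent F → gmap D σ u = u
  link : linkOk D = true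
  rank_two : ∀ i : Fin D.rank, ∃ k, k ≠ i

/-- If `h x h⁻¹` is fixed for a fixed `x`, then `h⁻¹ σ(h)` commutes with `x`. -/
theorem commute_of_conj_fixed {σ : F →+* F} {g x : GL D.Idx F} (hx : gmap D σ x = x)
    (hf : gmap D σ (g * x * g⁻¹) = g * x * g⁻¹) : Commute (g⁻¹ * gmap D σ g) x := by
  rw [map_mul, map_mul, map_inv, hx] at hf
  show g⁻¹ * gmap D σ g * x = x * (g⁻¹ * gmap D σ g)
  calc g⁻¹ * gmap D σ g * x = g⁻¹ * (gmap D σ g * x * (gmap D σ g)⁻¹) * gmap D σ g := by group
    _ = g⁻¹ * (g * x * g⁻¹) * gmap D σ g := by rw [hf]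
    _ = _ := by group

theorem fixed_of_inv_mul {σ : F →+* F} {l g : GL D.Idx F} (hl : gmap D σ l = l)
    (hf : gmap D σ (l⁻¹ * g) = l⁻¹ * g) : gmap D σ g = g := by
  rw [map_mul, map_inv, hl] at hf
  exact mul_left_cancel hf

variable {hW : GoodWeyl D} {σ : F →+* F} {H : Subgroup (GL D.Idx F)}

theorem Setting.X_mem (S : Setting hW σ H) (r : Root D) {t : F} (ht : σ t = t) :
    X hW.good r t ∈ H :=
  S.fix_le (ChevSubfield.X_mem_fixElem σ _ r ht)

/-- An element of `H` moved by `σ` inside `B` only. -/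
theorem Setting.sigma_mem_borel (S : Setting hW σ H) (h : Weyl.RootGood C M R)
    {J : Finset (Fin D.rank)} {i₀ : Fin D.rank} (hJ : i₀ ∉ J) {g : GL D.Idx F} (hg : g ∈ H)
    (hgP : g ∈ ChevUnip.PJ hW F J) : g⁻¹ * gmap D σ g ∈ D.borelSubgroup F := by
  refine mem_borel_of_comm_rad hW h S.link (J := (J : Set (Fin D.rank))) (i₀ := i₀)
    (by simpa using hJ) (mul_mem (inv_mem (S.le_group hg))
      (ChevSubfield.gmap_mem_group σ hW.good (S.le_group hg))) fun r hr => ?_
  refine commute_of_conj_fixed (by rw [X_map, map_one]) (S.pos_fix _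
    (mul_mem (mul_mem hg (S.X_mem r (map_one σ))) (inv_mem hg)) ?_)
  have h1 := (Subgroup.mem_normalizer_iff.1 (pJ_le_normalizer hW
    (show g ∈ pJ hW F (J : Set (Fin D.rank)) from hgP)) _).1 (X_mem_rootGen hW.good hr (1 : F))
  rw [posUnipotent_eq_rootGen hW.good]
  exact rootGen_mono hW.good (fun _ h' => h'.1) h1

theorem eq_zero_of_mem_posCompl (hW : GoodWeyl D) (i : Fin D.rank) {d : F}
    (hd : X hW.good (pRoot hW i) d ∈ rootGen hW.good F (posCompl hW i)) : d = 0 := by
  have h1 := nR_conj_posCompl hW i hd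
  rw [nR_conj, hW.wPerm_pRoot, hW.eta_pRoot, Int.cast_neg, Int.cast_one, neg_one_mul] at h1
  have h2 : X hW.good (pRoot hW i).rev (-d) ∈ D.borelSubgroup F ⊓ D.negUnipotent F :=
    ⟨pos_le_borel D (rootGen_posCompl_le hW i h1), X_mem_neg hW.good (pRoot_rev_neg hW i) _⟩
  rw [borel_inf_neg hW, Subgroup.mem_bot, ← X_zero hW.good (pRoot hW i).rev] at h2
  exact neg_eq_zero.1 (X_injective hW.good _ h2)

theorem gmap_mem_posCompl (hW : GoodWeyl D) (σ : F →+* F) (i : Fin D.rank) {v : GL D.Idx F}
    (hv : v ∈ rootGen hW.good F (posCompl hW i)) :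
    gmap D σ v ∈ rootGen hW.good F (posCompl hW i) := by
  refine (rootGen_le hW.good (K := (rootGen hW.good F (posCompl hW i)).comap (gmap D σ))
    fun r hr t => ?_) hv
  show gmap D σ (X hW.good r t) ∈ rootGen hW.good F (posCompl hW i)
  rw [X_map]
  exact X_mem_rootGen _ hr _

/-- The elements of `H ∩ B` are fixed. -/
theorem Setting.borel_fixed (S : Setting hW σ H) (h : Weyl.RootGood C M R) {g : GL D.Idx F}
    (hg : g ∈ H) (hgB : g ∈ D.borelSubgroup F) : gmap D σ g = g := by
  obtain ⟨v, hv, k, hk, rfl⟩ := (mem_borel_iff hW).1 hgB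
  obtain ⟨c, hc⟩ : k ∈ (torHom D F).range := by rwa [← diagonalSubgroup_eq_range hW]
  have hkc : ∀ (r : Root D) (t : F),
      k * X hW.good r t * k⁻¹ = X hW.good r ((ChevTorus.torVal c (Sum.inr r) : F) * t) :=
    fun r t => hc ▸ ChevTorus.torC_conj_X hW.good c r t
  have hzG : (v * k)⁻¹ * gmap D σ (v * k) ∈ D.group F :=
    mul_mem (inv_mem (S.le_group hg)) (ChevSubfield.gmap_mem_group σ hW.good (S.le_group hg))
  set z := (v * k)⁻¹ * gmap D σ (v * k) with hz
  have hboth : ∀ i : Fin D.rank, Commute z (X hW.good (pRoot hW i) 1) ∧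
      Commute z (X hW.good (pRoot hW i).rev 1) := by
    intro i
    set a := pRoot hW i
    set e : F := (ChevTorus.torVal c (Sum.inr a) : F) with he
    have he0 : e ≠ 0 := Units.ne_zero _
    have hrev : ChevTorus.torVal c (Sum.inr a.rev) = (ChevTorus.torVal c (Sum.inr a))⁻¹ := by
      simp only [ChevTorus.torVal, ← Finset.prod_inv_distrib]
      refine Finset.prod_congr rfl fun l _ => ?_
      rw [wt_inr, wt_inr, hW.good.cartan_rev, zpow_neg]
    obtain ⟨v', hv', t, rfl⟩ := exists_split_pos hW i hv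
    have hA : v' * X hW.good a t * k * X hW.good a 1 * (v' * X hW.good a t * k)⁻¹ =
        v' * X hW.good a e * v'⁻¹ := by
      calc v' * X hW.good a t * k * X hW.good a 1 * (v' * X hW.good a t * k)⁻¹
          = v' * X hW.good a t * (k * X hW.good a 1 * k⁻¹) * (X hW.good a t)⁻¹ * v'⁻¹ := by group
        _ = v' * (X hW.good a t * X hW.good a e * X hW.good a (-t)) * v'⁻¹ := by
          rw [hkc, mul_one, X_inv, ← he]; group
        _ = _ := by rw [X_mul, X_mul, show t + e + -t = e by ring]
    have hfixA := S.pos_fix _ (mul_mem (mul_mem hg (S.X_mem a (map_one σ))) (inv_mem hg)) (by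
      rw [hA]
      exact mul_mem (mul_mem (rootGen_posCompl_le hW i hv') (X_mem_pos hW.good (pRoot_pos hW i) e))
        (inv_mem (rootGen_posCompl_le hW i hv')))
    refine ⟨commute_of_conj_fixed (by rw [X_map, map_one]) hfixA, ?_⟩
    -- the scalar of `α_i` is fixed
    have hσe : σ e = e := by
      rw [hA] at hfixA
      set v₁ := v' * (X hW.good a e * v'⁻¹ * (X hW.good a e)⁻¹)
      have hv₁ : v₁ ∈ rootGen hW.good F (posCompl hW i) :=
        mul_mem hv' (X_conj_posCompl hW i e (inv_mem hv'))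
      have e1 : gmap D σ v₁ * X hW.good a (σ e) = v₁ * X hW.good a e := by
        rw [← X_map, ← map_mul, show v₁ * X hW.good a e = v' * X hW.good a e * v'⁻¹ by
          simp only [v₁]; group]
        exact hfixA
      have e2 : X hW.good a (σ e + -e) = (gmap D σ v₁)⁻¹ * v₁ := by
        rw [← X_mul, ← X_inv, eq_inv_mul_iff_mul_eq, ← mul_assoc, e1, mul_inv_cancel_right]
      have := eq_zero_of_mem_posCompl hW i (d := σ e + -e)
        (by rw [e2]; exact mul_mem (inv_mem (gmap_mem_posCompl hW σ i hv₁)) hv₁)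
      exact (add_neg_eq_zero.1 this)
    -- the coordinate of `v` along `α_i` is fixed
    set m := v' * X hW.good a t * k * X hW.good a.rev 1 * (v' * X hW.good a t * k)⁻¹ with hm
    have hmH : m ∈ H := mul_mem (mul_mem hg (S.X_mem a.rev (map_one σ))) (inv_mem hg)
    have hmP : m ∈ ChevUnip.PJ hW F {i} := by
      have hb : v' * X hW.good a t * k ∈ ChevUnip.PJ hW F {i} :=
        ChevUnip.borel_le_PJ hW _ hgB
      refine mul_mem (mul_mem hb ?_) (inv_mem hb)
      show X hW.good a.rev 1 ∈ pJ hW F (({i} : Finset (Fin D.rank)) : Set (Fin D.rank))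
      exact X_rootJ_mem_pJ hW (rev_mem_rootJ hW (pRoot_mem_rootJ hW (by simp))) _
    obtain ⟨i₀, hi₀⟩ := S.rank_two i
    have hmB := S.sigma_mem_borel h (J := {i}) (i₀ := i₀) (by simpa using hi₀) hmH hmP
    have hk' : k * X hW.good a.rev 1 * k⁻¹ = X hW.good a.rev e⁻¹ := by
      rw [hkc, hrev, Units.val_inv_eq_inv_val, mul_one]
    have hmform : m = v' * (X hW.good a t * X hW.good a.rev e⁻¹ * X hW.good a (-t)) * v'⁻¹ := by
      rw [hm]
      calc v' * X hW.good a t * k * X hW.good a.rev 1 * (v' * X hW.good a t * k)⁻¹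
          = v' * X hW.good a t * (k * X hW.good a.rev 1 * k⁻¹) * (X hW.good a t)⁻¹ * v'⁻¹ := by
            group
        _ = _ := by rw [hk', X_inv]; group
    have hσt : σ t = t := by
      set ue : Fˣ := Units.mk0 (-e⁻¹) (neg_ne_zero.2 (inv_ne_zero he0)) with hue
      have hinv : -((ue⁻¹ : Fˣ) : F) = e := by
        rw [Units.val_inv_eq_inv_val, hue, Units.val_mk0]
        field_simp
      have hcell : X hW.good a.rev e⁻¹ =
          X hW.good a e * hT F a ue⁻¹ * nR hW i * X hW.good a e := by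
        have := nR_conj_X_pRoot hW i ue
        rw [hinv, nR_conj, hW.wPerm_pRoot, hW.eta_pRoot, Int.cast_neg, Int.cast_one,
          neg_one_mul, hue, Units.val_mk0, neg_neg] at this
        exact this
      set v₂ := X hW.good a (-(t + e)) * v' * X hW.good a (t + e) with hv₂
      have hv₂m : v₂ ∈ rootGen hW.good F (posCompl hW i) := by
        have := X_conj_posCompl hW i (-(t + e)) hv'
        rwa [X_inv, neg_neg] at this
      set cc := (nR hW i)⁻¹ * v₂ * nR hW i * ((nR hW i)⁻¹ * hT F a ue⁻¹ * nR hW i) *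
        (X hW.good a e * X hW.good a (-t) * v'⁻¹) with hcc
      have hccB : cc ∈ D.borelSubgroup F := by
        refine mul_mem (mul_mem (pos_le_borel D (rootGen_posCompl_le hW i
          (nR_inv_conj_posCompl hW i hv₂m))) (diag_le_borel D ?_)) (mul_mem (mul_mem
            (X_pRoot_mem_borel hW i e) (X_pRoot_mem_borel hW i _))
            (inv_mem (pos_le_borel D (rootGen_posCompl_le hW i hv'))))
        have := Subgroup.mem_normalizer_iff.1
          (monomial_le_normalizer hW (inv_mem (nR_mem_monomial (F := F) hW i))) (hT F a ue⁻¹)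
        rw [inv_inv] at this
        exact this.1 (hT_mem_diagonal hW _ _)
      have hmc : m = X hW.good a (t + e) * nR hW i * cc := by
        rw [hmform, hcell, hcc, hv₂, ← X_mul hW.good a t e, ← X_inv hW.good a (t + e), ← X_mul]
        group
      have hup : GoesUp hW h i (1 : M.Group) := by
        rw [goesUp_iff, mul_one, CoxeterSystem.length_one, zero_add]
        exact M.toCoxeterSystem.length_simple i
      have hc1 : cc ∈ cell hW h F 1 := by rwa [cell_one hW h]
      clear_value cc
      have e1 : X hW.good a (σ (t + e)) * nR hW i * gmap D σ cc =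
          X hW.good a (t + e) * nR hW i * (cc * (m⁻¹ * gmap D σ m)) := by
        rw [hmc, map_mul, map_mul, X_map, nR_map]
        group
      have := ChevSubfield.coord_unique hW h hup (ChevSubfield.gmap_mem_cell σ hW h hc1)
        (cell_mul_borel_mem hW h hc1 hmB) e1
      rw [map_add, hσe] at this
      exact add_right_cancel this
    set w := X hW.good a (-t) * v' * X hW.good a t with hw
    have hwm : w ∈ rootGen hW.good F (posCompl hW i) := by
      have := X_conj_posCompl hW i (-t) hv'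
      rwa [X_inv, neg_neg] at this
    set d := X hW.good a.rev e⁻¹
    set w' := w * (d * w⁻¹ * d⁻¹) with hw'
    have hw'm : w' ∈ rootGen hW.good F (posCompl hW i) := by
      refine mul_mem hwm ?_
      have hd : d = nR hW i * X hW.good a (-e⁻¹) * (nR hW i)⁻¹ := by
        rw [nR_conj, hW.wPerm_pRoot, hW.eta_pRoot, Int.cast_neg, Int.cast_one, neg_one_mul, neg_neg]
      rw [hd, show ∀ n x y : GL D.Idx F, n * x * n⁻¹ * y * (n * x * n⁻¹)⁻¹ =
        n * (x * (n⁻¹ * y * n) * x⁻¹) * n⁻¹ from fun n x y => by group]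
      exact nR_conj_posCompl hW i (X_conj_posCompl hW i _ (nR_inv_conj_posCompl hW i (inv_mem hwm)))
    have hmw : m = X hW.good a t * (w' * d) * (X hW.good a t)⁻¹ := by
      rw [hmform, hw', hw]
      show _ = _
      rw [← X_inv hW.good a t]
      group
    have hdH : d ∈ H := S.X_mem _ (by rw [map_inv₀, hσe])
    have hσw : gmap D σ w' = w' := by
      refine S.pos_fix _ ?_ (rootGen_posCompl_le hW i hw'm)
      have : w' = (X hW.good a t)⁻¹ * m * X hW.good a t * d⁻¹ := by rw [hmw]; group
      rw [this]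
      exact mul_mem (mul_mem (mul_mem (inv_mem (S.X_mem a hσt)) hmH) (S.X_mem a hσt)) (inv_mem hdH)
    refine commute_of_conj_fixed (by rw [X_map, map_one]) ?_
    rw [← hm, hmw, map_mul, map_mul, map_mul, map_inv, hσw, X_map, hσt]
    show _ * (_ * gmap D σ (X hW.good a.rev e⁻¹)) * _ = _
    rw [X_map, map_inv₀, hσe]
  -- `z` commutes with every `x_r(1)`
  have hn : ∀ i, Commute z (nR hW i) := fun i => by
    obtain ⟨h1, h2⟩ := hboth i
    exact (h1.mul_right (by rw [← X_inv]; exact h2.inv_right)).mul_right h1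
  have hall : ∀ r, Commute z (X hW.good r 1) := by
    intro r
    refine hW.root_induction (P := fun r => Commute z (X hW.good r (1 : F)))
      (fun i => (hboth i).1) (fun i s hs => ?_) r
    have h1 : Commute z (nR hW i * X hW.good s 1 * (nR hW i)⁻¹) :=
      ((hn i).mul_right hs).mul_right (hn i).inv_right
    rw [nR_conj, mul_one] at h1
    rcases Int.isUnit_iff.1 (IsUnit.of_mul_eq_one _ (hW.eta_sq i s)) with he | he <;>
      rw [he] at h1 <;> simp only [Int.cast_one, Int.cast_neg] at h1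
    · exact h1
    · rw [← X_inv] at h1
      exact inv_inv (X hW.good (wPerm hW i s) (1 : F)) ▸ h1.inv_right
  have := ChevSubfield.eq_one_of_comm hW h hzG fun r => (hall r).eq
  exact (inv_mul_eq_one.1 this).symm

/-- The elements of `H` in a proper standard parabolic subgroup are fixed. -/
theorem Setting.parabolic_fixed (S : Setting hW σ H) (h : Weyl.RootGood C M R)
    {J : Finset (Fin D.rank)} {i₀ : Fin D.rank} (hJ : i₀ ∉ J) {g : GL D.Idx F} (hg : g ∈ H)
    (hgP : g ∈ ChevUnip.PJ hW F J) : gmap D σ g = g := by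
  obtain ⟨l, hl, hlb⟩ := exists_fixed_borel_rep σ hW h (S.le_group hg)
    (S.sigma_mem_borel h hJ hg hgP)
  exact fixed_of_inv_mul (ChevSubfield.gmap_fixElem σ hW.good hl)
    (S.borel_fixed h (mul_mem (inv_mem (S.fix_le hl)) hg) hlb)

/-- The centralizer in `H` of a fixed element conjugate into `U` is fixed. -/
theorem Setting.centralizer_fixed (S : Setting hW σ H) (h : Weyl.RootGood C M R)
    {x g₁ : GL D.Idx F} (hxf : gmap D σ x = x) (hx : x ≠ 1) (hg₁ : g₁ ∈ D.group F)
    (hu : g₁⁻¹ * x * g₁ ∈ D.posUnipotent F) {g : GL D.Idx F} (hg : g ∈ H) (hc : Commute g x) :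
    gmap D σ g = g := by
  obtain ⟨g₀, hg₀, J, ⟨i₀, hi₀⟩, hcent, hσ⟩ := exists_optimal hW h hx hg₁ hu
  obtain ⟨l, hl, hlP⟩ := exists_fixed_parabolic_rep σ hW h J hg₀ (hσ σ hxf)
  have hlf := ChevSubfield.gmap_fixElem σ hW.good hl
  have h1 : gmap D σ (l⁻¹ * g * l) = l⁻¹ * g * l := by
    refine S.parabolic_fixed h hi₀ (mul_mem (mul_mem (inv_mem (S.fix_le hl)) hg) (S.fix_le hl)) ?_
    rw [show l⁻¹ * g * l = (l⁻¹ * g₀) * (g₀⁻¹ * g * g₀) * (l⁻¹ * g₀)⁻¹ by group]
    exact mul_mem (mul_mem hlP (hcent g (S.le_group hg) hc)) (inv_mem hlP)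
  rw [map_mul, map_mul, map_inv, hlf] at h1
  exact mul_left_cancel (mul_right_cancel h1)

/-- The centralizer in `H` of a fixed element of `U` is fixed. -/
theorem Setting.centralizer_pos_fixed (S : Setting hW σ H) (h : Weyl.RootGood C M R)
    {x : GL D.Idx F} (hxf : gmap D σ x = x) (hx : x ≠ 1) (hu : x ∈ D.posUnipotent F)
    {g : GL D.Idx F} (hg : g ∈ H) (hc : Commute g x) : gmap D σ g = g :=
  S.centralizer_fixed h hxf hx (g₁ := 1) (one_mem _) (by simpa using hu) hg hc

end CfsgLib.SubfieldOver
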