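import Cfsg.Agent.SubfieldOver.Layer
import Cfsg.Agent.SubfieldOver.Local

/-!
# The centralizer in `U` of the positive `x_s(1)`, and fixed unipotent elements

An element of `U` commuting with all `x_s(1)`, `s` positive, involves only the exceptional central
roots.  By descending induction a subgroup containing the fixed root elements meets `U` in fixed
elements as soon as this holds for the exceptional roots.
-/

set_option autoImplicit false

namespace CfsgLib.SubfieldOver

open Cfsg.Lie CfsgLib CfsgLib.Chevalley
open CfsgLib.ChevSubfield (gmap fixElem)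
open scoped MatrixGroups

variable {D : ChevalleyDatum} {F : Type*} [Field F]

/-- The characteristic data: climbing and central roots modulo the characteristic. -/
structure CentreData (D : ChevalleyDatum) (F : Type*) [Field F] (q : ℕ) (E : List ℕ) : Prop where
  inj : chkWtInj D = true
  climb : chkClimb D q E = true
  central : ∀ e ∈ E, chkCentral D q e = true
  cast_ne : ∀ n : ℤ, n.natAbs ≤ 3 → n.natAbs % q ≠ 0 → (n : F) ≠ 0
  cast_eq : ∀ n : ℤ, n.natAbs % q = 0 → ∀ e ∈ E, ∀ l < half D, (D.commTerms e (half D + l)).map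
    (fun c => c.2.1) |>.contains n → (n : F) = 0

/-- The exceptional roots. -/
def excSet (D : ChevalleyDatum) (E : List ℕ) : Set (Root D) :=
  {r | half D ≤ (r : ℕ) ∧ (r : ℕ) ∈ E}

theorem commute_exc (hC : GoodComm D) {q : ℕ} {E : List ℕ} (P : CentreData D F q E) {e : Root D}
    (he : e ∈ excSet D E) {u : GL D.Idx F} (hu : u ∈ D.posUnipotent F) (t : F) :
    Commute (X hC.good e t) u := by
  rw [posUnipotent_eq_rootGen hC.good] at hu
  induction hu using Subgroup.closure_induction with
  | mem x hx =>
    obtain ⟨s, hs, v, rfl⟩ := hx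
    rcases eq_or_ne s e with rfl | hne
    · show _ * _ = _ * _
      rw [X_mul, X_mul, add_comm]
    show X hC.good e t * X hC.good s v = X hC.good s v * X hC.good e t
    rw [X_comm hC e s hne (hC.good.rev_ne_of_key (b := false) he.1 hs) t v]
    have : commRhs hC.good (e : ℕ) (s : ℕ) t v = 1 := by
      refine List.prod_eq_one fun x hx => ?_
      simp only [List.map_map, List.mem_map, Function.comp_apply] at hx
      obtain ⟨c, hc, rfl⟩ := hx
      have hs' : half D ≤ (s : ℕ) := hs
      have h1 := P.central _ he.2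
      simp only [chkCentral, List.all_eq_true, List.mem_range, beq_iff_eq] at h1
      obtain ⟨l, hl⟩ : ∃ l, (s : ℕ) = half D + l := ⟨(s : ℕ) - half D, by omega⟩
      have hh := hC.good.two_half
      have hcz := P.cast_eq _ (h1 l (by have := s.isLt; omega) c (hl ▸ hc)) _ he.2 l
        (by have := s.isLt; omega)
        (List.contains_iff_mem.2 (List.mem_map.2 ⟨c, hl ▸ hc, rfl⟩))
      split
      · rw [hcz, zero_mul, zero_mul, X_zero]
      · rfl
    rw [this, mul_one]
  | one => exact Commute.one_right _
  | mul x y _ _ hx hy => exact hx.mul_right hy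
  | inv x _ hx => exact hx.inv_right

/-- The commutator `X⁻¹ z⁻¹ X z`. -/
def kap (Xs z : GL D.Idx F) : GL D.Idx F := Xs⁻¹ * z⁻¹ * Xs * z

theorem kap_mul (Xs a b : GL D.Idx F) :
    kap Xs (a * b) = kap Xs b * (b⁻¹ * kap Xs a * b⁻¹⁻¹) := by
  simp only [kap]; group

theorem kap_eq_one {Xs z : GL D.Idx F} (hc : Commute z Xs) : kap Xs z = 1 := by
  rw [kap, mul_assoc, mul_assoc, ← hc.eq, inv_mul_cancel_left, inv_mul_cancel]

/-- The coordinate of the commutator of one root element with `x_s(1)`. -/
theorem kap_X_val (hW : GoodWeyl D) (hinj : chkWtInj D = true) {r d s W : Root D}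
    (hrp : half D ≤ (r : ℕ)) (hd : half D ≤ (d : ℕ)) (hsp : half D ≤ (s : ℕ))
    (hwc : ∀ l : Fin D.rank, D.cartan l W = ((1 : ℕ) : ℤ) * D.cartan l r + D.cartan l s)
    (hWht : ht D (Sum.inr W) = ht D (Sum.inr r) + ht D (Sum.inr s))
    (hdh : ht D (Sum.inr r) ≤ ht D (Sum.inr d)) (hsr : s ≠ r)
    {c : ℕ × ℤ × ℕ × ℕ} {L : List (ℕ × ℤ × ℕ × ℕ)}
    (hL : D.commTerms r s = c :: L) (hLw : ∀ e ∈ L, e.1 ≠ (W : ℕ))
    (hcw : c.1 = (W : ℕ)) (hci : c.2.2.1 = 1) (hcj : c.2.2.2 = 1) (a b : F)
    (hab : d = r → a = b) :
    IsLay (ht D (Sum.inr W)) (kap (X hW.good s (1 : F)) (X hW.good d a)) ∧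
      layerVal W (kap (X hW.good s (1 : F)) (X hW.good d a)) =
        if d = r then fun j : Fin D.rank => -((c.2.1 : F) * b) * ((D.coroot.getD W #[]).getD j 0 : F)
        else 0 := by
  classical
  have hrh := (hW.good.pos_iff_ht r).1 hrp
  have hsh := (hW.good.pos_iff_ht s).1 hsp
  have h0p : 0 < ht D (Sum.inr W) := by omega
  have hWp : half D ≤ (W : ℕ) := (hW.good.pos_iff_ht W).2 h0p
  rcases eq_or_ne s d with hsd | hsd
  · subst hsd
    rw [kap_eq_one (show Commute (X hW.good s a) (X hW.good s (1 : F)) by
      show _ * _ = _ * _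
      rw [X_mul, X_mul, add_comm]), if_neg hsr]
    exact ⟨IsLay.one, layerVal_one⟩
  have hds : s ≠ d.rev := hW.good.rev_ne_of_key (b := false) hd hsp
  have e0 : kap (X hW.good s (1 : F)) (X hW.good d a) = commRhs hW.good d s a (1 : F) := by
    rw [kap, mul_assoc, X_comm hW.toGoodComm d s hsd hds a 1]
    group
  rw [e0, commRhs, wordGL, List.map_map]
  set f : ℕ × ℤ × ℕ × ℕ → GL D.Idx F :=
    (fun p : ℕ × F => if h : p.1 < D.nroots then X hW.good ⟨p.1, h⟩ p.2 else 1) ∘
      fun c => (c.1, (c.2.1 : F) * (-a) ^ c.2.2.1 * (1 : F) ^ c.2.2.2) with hf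
  have hterm : ∀ e ∈ D.commTerms d s, IsLay (ht D (Sum.inr W)) (f e) ∧
      (d = r → e ∈ L → layerVal W (f e) = 0) ∧ (d ≠ r → layerVal W (f e) = 0) := by
    intro e he
    obtain ⟨hlt, i, j, hi, hj, hij⟩ :=
      Good.commTerms_cartan (b := false) hW.toGoodComm hd hsp he
    have hcd := ht_of_cartan d s ⟨e.1, hlt⟩ i j hij
    have hi' : (1 : ℤ) ≤ i := by exact_mod_cast hi
    have hj' : (1 : ℤ) ≤ j := by exact_mod_cast hj
    have h1 := le_mul_of_one_le_left (hrh.le.trans hdh) hi'
    have h2 := le_mul_of_one_le_left hsh.le hj'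
    have hge : ht D (Sum.inr W) ≤ ht D (Sum.inr (⟨e.1, hlt⟩ : Root D)) := by omega
    simp only [hf, Function.comp_apply, dif_pos hlt]
    refine ⟨layer_entries hW.good h0p
      (X_mem_rootGen _ (S := {c : Root D | ht D (Sum.inr W) ≤ ht D (Sum.inr c)}) hge _),
      fun _ heL => ?_, fun hdr => ?_⟩ <;> rw [layerVal_X, if_neg]
    · exact fun e1 => hLw e heL (congrArg Fin.val e1)
    · intro e1
      rw [e1] at hcd hij
      have hi1 : i = 1 := by
        by_contra hi2
        have : (2 : ℤ) ≤ i := by exact_mod_cast (show 2 ≤ i by omega)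
        have := mul_le_mul_of_nonneg_right this (hrh.le.trans hdh)
        omega
      have hj1 : j = 1 := by
        by_contra hj2
        have : (2 : ℤ) ≤ j := by exact_mod_cast (show 2 ≤ j by omega)
        have := mul_le_mul_of_nonneg_right this hsh.le
        omega
      exact hdr (cartan_injective hW.good hinj fun l => by
        have h1 := hij l
        rw [hwc l, hi1, hj1] at h1
        push_cast at h1
        linarith)
  refine ⟨?_, ?_⟩
  · refine List.prod_induction _ (fun _ _ => IsLay.mul h0p) IsLay.one fun x hx => ?_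
    obtain ⟨e, he, rfl⟩ := List.mem_map.1 hx
    exact (hterm e he).1
  rw [layerGen_list_val hW.good hWp (fun x hx => by
    obtain ⟨e, he, rfl⟩ := List.mem_map.1 hx
    exact (hterm e he).1), List.map_map]
  split_ifs with hdr
  · subst hdr
    rw [hL]
    have hLz : (L.map (layerVal W ∘ f)).sum = 0 := by
      refine List.sum_eq_zero fun x hx => ?_
      obtain ⟨e, he, rfl⟩ := List.mem_map.1 hx
      exact (hterm e (hL ▸ List.mem_cons_of_mem _ he)).2.1 rfl he
    rw [List.map_cons, List.sum_cons, hLz, add_zero]
    have hlt : c.1 < D.nroots := hcw ▸ W.isLt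
    show layerVal W (f c) = _
    simp only [hf, Function.comp_apply, dif_pos hlt, layerVal_X, hci, hcj, hab rfl]
    rw [if_pos (Fin.ext hcw)]
    funext j
    simp [hcw]
  · refine List.sum_eq_zero fun x hx => ?_
    obtain ⟨e, he, rfl⟩ := List.mem_map.1 hx
    exact (hterm e he).2.2 hdr

/-- `t_k = 0` outside the exceptional roots when `∏ x_k(t_k)` commutes with all positive
`x_s(1)`. -/
theorem coord_eq_zero (hW : GoodWeyl D) {q : ℕ} {E : List ℕ} (P : CentreData D F q E) (t : ℕ → F)
    (hc : ∀ s : Root D, half D ≤ (s : ℕ) →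
      Commute (prodFrom hW.good false t (half D) (half D)) (X hW.good s 1))
    {k : ℕ} (hk : half D ≤ k) (hk' : k < D.nroots) (hkE : k ∉ E) : t k = 0 := by
  classical
  by_contra hne
  have hh := hW.good.two_half
  set S : Finset (Root D) := Finset.univ.filter fun r : Root D =>
    half D ≤ (r : ℕ) ∧ (r : ℕ) ∉ E ∧ t r ≠ 0
  obtain ⟨r, hr, hmin⟩ := S.exists_min_image (fun r => ht D (Sum.inr r))
    ⟨⟨k, hk'⟩, Finset.mem_filter.2 ⟨Finset.mem_univ _, hk, hkE, hne⟩⟩
  obtain ⟨-, hrp, hrE, hrt⟩ := Finset.mem_filter.1 hr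
  have hcl := P.climb
  simp only [chkClimb, List.all_eq_true, List.mem_range, Bool.or_eq_true, List.any_eq_true] at hcl
  have hrl := r.isLt
  obtain ⟨l, hl, hcl⟩ := (hcl ((r : ℕ) - half D) (by omega)).resolve_left (by
    rw [Nat.add_sub_cancel' hrp]; simpa using hrE)
  rw [Nat.add_sub_cancel' hrp] at hcl
  set s : Root D := ⟨half D + l, by omega⟩ with hs
  have hsp : half D ≤ (s : ℕ) := Nat.le_add_right _ _
  rw [climbsTo] at hcl
  split at hcl
  swap
  · simp at hcl
  next w c L hw hL =>
  simp only [Bool.and_eq_true, beq_iff_eq, decide_eq_true_eq, List.all_eq_true, bne_iff_ne] at hcl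
  obtain ⟨⟨⟨⟨⟨hcw, hci⟩, hcj⟩, hc3⟩, hcq⟩, hLw⟩ := hcl
  have hsr' : s ≠ r := fun e => by
    have e1 : D.chainEntry (r : ℕ) (half D + l) = [] := by
      rw [show half D + l = (r : ℕ) from congrArg Fin.val e]
      exact hW.good.chainEntry_self r.isLt
    simp [ChevalleyDatum.chainRoot, e1] at hw
  have hsr : s ≠ r.rev := hW.good.rev_ne_of_key (b := false) hrp hsp
  obtain ⟨hwlt, hwc⟩ := Good.chainRoot_cartan hW.toGoodComm hsr one_pos
    (show D.chainRoot r s 1 = some w from hw)
  set W : Root D := ⟨w, hwlt⟩ with hWdef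
  have hWht : ht D (Sum.inr W) = ht D (Sum.inr r) + ht D (Sum.inr s) := by
    rw [ht_of_cartan r s W 1 1 fun l => by rw [hwc l]; push_cast; ring]
    push_cast; ring
  have hrh := (hW.good.pos_iff_ht r).1 hrp
  have hsh := (hW.good.pos_iff_ht s).1 hsp
  have hWp : half D ≤ (W : ℕ) := (hW.good.pos_iff_ht W).2 (by omega)
  set Xs := X hW.good s (1 : F)
  set N : F := (c.2.1 : F)
  set h0 := ht D (Sum.inr W)
  have h0p : 0 < h0 := (hW.good.pos_iff_ht W).1 hWp
  -- one factor
  have hfac : ∀ d : Root D, half D ≤ (d : ℕ) → IsLay h0 (kap Xs (X hW.good d (t d))) ∧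
      layerVal W (kap Xs (X hW.good d (t d))) =
        if d = r then fun j : Fin D.rank => -(N * t r) * ((D.coroot.getD W #[]).getD j 0 : F)
        else 0 := by
    intro d hd
    by_cases hdE : (d : ℕ) ∈ E
    · rw [kap_eq_one (commute_exc hW.toGoodComm P ⟨hd, hdE⟩ (X_mem_pos hW.good hsp _) _),
        if_neg fun e => hrE (by rw [← e]; exact hdE)]
      exact ⟨IsLay.one, layerVal_one⟩
    by_cases hd0 : t d = 0
    · rw [hd0, X_zero, kap_eq_one (Commute.one_left _),
        if_neg fun e => hrt (by rw [← e]; exact hd0)]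
      exact ⟨IsLay.one, layerVal_one⟩
    have hdh : ht D (Sum.inr r) ≤ ht D (Sum.inr d) :=
      hmin d (Finset.mem_filter.2 ⟨Finset.mem_univ _, hd, hdE, hd0⟩)
    exact kap_X_val hW P.inj hrp hd hsp hwc hWht hdh hsr' hL hLw hcw hci hcj (t d) (t r)
      fun e => by rw [e]
  -- the product
  have hprod : ∀ n m, half D ≤ m → m + n = D.nroots →
      IsLay h0 (kap Xs (prodFrom hW.good false t m n)) ∧
      layerVal W (kap Xs (prodFrom hW.good false t m n)) =
        if m ≤ (r : ℕ) then fun j : Fin D.rank => -(N * t r) * ((D.coroot.getD W #[]).getD j 0 : F)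
        else 0 := by
    intro n
    induction n with
    | zero =>
      intro m hm hmn
      have e1 : prodFrom hW.good false t m 0 = 1 := by simp [prodFrom]
      rw [e1, kap_eq_one (Commute.one_left _), if_neg (by omega)]
      exact ⟨IsLay.one, layerVal_one⟩
    | succ n ih =>
      intro m hm hmn
      obtain ⟨h1, h2⟩ := ih (m + 1) (by omega) (by omega)
      set d := rootOf hW.good false m
      have hdk : (d : ℕ) = m := key_rootOf hW.good (b := false) (by omega)
      obtain ⟨h3, h4⟩ := hfac d (by omega)
      rw [hdk] at h3 h4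
      rw [prodFrom_succ, kap_mul]
      have hrest : (prodFrom hW.good false t (m + 1) n)⁻¹ ∈ D.posUnipotent F := by
        refine inv_mem ?_
        rw [posUnipotent_eq hW.good]
        exact uGe_mono hW.good (by omega) (prodFrom_mem hW.good t (by omega) (by omega))
      refine ⟨h1.mul h0p (h3.conj hW.good h0p hrest), ?_⟩
      rw [layerVal_mul hW.good hWp h1 (h3.conj hW.good h0p hrest),
        layerVal_conj hW.good hWp hrest h3, h2, h4]
      by_cases hdr : d = r
      · rw [if_pos hdr, if_neg (by rw [← hdr]; omega), zero_add, if_pos (by rw [← hdr]; omega)]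
      · have hne' : m ≠ (r : ℕ) := fun e => hdr (Fin.ext (by omega))
        rw [if_neg hdr, add_zero]
        by_cases hmr : m ≤ (r : ℕ)
        · rw [if_pos hmr, if_pos (by omega)]
        · rw [if_neg hmr, if_neg (by omega)]
  obtain ⟨j, hj⟩ := hW.toGoodUni.exists_coroot_ne F W
  have hv := (hprod (half D) (half D) le_rfl (by omega)).2
  rw [kap_eq_one (hc s hsp), layerVal_one, if_pos hrp] at hv
  have := congrFun hv.symm j
  simp only [Pi.zero_apply, mul_eq_zero, neg_eq_zero] at this
  rcases this with (h1 | h1) | h1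
  exacts [P.cast_ne _ hc3 hcq h1, hrt h1, hj h1]

/-- An element of `U` whose defect `u⁻¹ σ(u)` commutes with the positive `x_s(1)` is fixed up to
exceptional roots. -/
theorem exists_exc_part (hW : GoodWeyl D) {q : ℕ} {E : List ℕ} (P : CentreData D F q E)
    (σ : F →+* F) : ∀ n m, half D ≤ m → m + n = D.nroots → ∀ u ∈ uGe hW.good F false m,
      (∀ s : Root D, half D ≤ (s : ℕ) → Commute (u⁻¹ * gmap D σ u) (X hW.good s 1)) →
      ∃ l ∈ fixElem hW.good σ, ∃ e ∈ rootGen hW.good F (excSet D E), u = l * e := by
  intro n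
  induction n with
  | zero =>
    intro m hm hmn u hu _
    rw [uGe_eq_bot _ (by omega), Subgroup.mem_bot] at hu
    exact ⟨1, one_mem _, 1, one_mem _, by rw [hu, one_mul]⟩
  | succ n ih =>
    intro m hm hmn u hu hc
    obtain ⟨t, rfl⟩ := exists_prodFrom hW.toGoodComm (n + 1) m hm hmn u hu
    rw [prodFrom_succ] at hc ⊢
    set r := rootOf hW.good false m
    set v := prodFrom hW.good false t (m + 1) n
    have hrk : (r : ℕ) = m := key_rootOf hW.good (b := false) (by omega)
    have hv : v ∈ uGe hW.good F false (m + 1) := prodFrom_mem hW.good t (by omega) (by omega)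
    have hvU : v ∈ D.posUnipotent F := by
      rw [posUnipotent_eq hW.good]; exact uGe_mono hW.good (by omega) hv
    have hσv : gmap D σ v ∈ uGe hW.good F false (m + 1) := by
      rw [ChevSubfield.gmap_prodFrom]
      exact prodFrom_mem hW.good _ (by omega) (by omega)
    set δ := -t m + σ (t m) with hδ
    have ez : (X hW.good r (t m) * v)⁻¹ * gmap D σ (X hW.good r (t m) * v) =
        v⁻¹ * X hW.good r δ * gmap D σ v := by
      rw [hδ, ← X_mul, ← X_inv, map_mul, X_map]; group
    by_cases hmE : m ∈ E
    · have hre : r ∈ excSet D E := ⟨by omega, hrk ▸ hmE⟩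
      obtain ⟨l, hl, e, he, hle⟩ := ih (m + 1) (by omega) (by omega) v hv fun s hs => by
        have h1 := hc s hs
        rw [ez, ← (commute_exc hW.toGoodComm P hre (inv_mem hvU) δ).eq, mul_assoc] at h1
        have h2 := ((commute_exc hW.toGoodComm P hre (X_mem_pos hW.good hs 1) δ).inv_left).mul_left h1
        rwa [inv_mul_cancel_left] at h2
      refine ⟨l, hl, X hW.good r (t m) * e, mul_mem (X_mem_rootGen _ hre _) he, ?_⟩
      have heU : e ∈ D.posUnipotent F := by
        rw [posUnipotent_eq_rootGen hW.good]
        exact rootGen_mono hW.good (fun _ h => h.1) he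
      have hlU : l ∈ D.posUnipotent F := by
        have := mul_mem hvU (inv_mem heU)
        rwa [hle, mul_inv_cancel_right] at this
      rw [hle]
      rw [← mul_assoc, (commute_exc hW.toGoodComm P hre hlU (t m)).eq, mul_assoc]
    · have hδ0 : δ = 0 := by
        have hzU : (X hW.good r (t m) * v)⁻¹ * gmap D σ (X hW.good r (t m) * v) ∈
            uGe hW.good F false m := by
          rw [ez]
          exact mul_mem (mul_mem (inv_mem (uGe_mono hW.good (by omega) hv))
            (X_mem_uGe hW.good (b := false) (by omega : half D ≤ (r : ℕ)) (by omega : m ≤ (r : ℕ)) _))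
            (uGe_mono hW.good (by omega) hσv)
        have hh := hW.good.two_half
        obtain ⟨d, hd⟩ := exists_prodFrom hW.toGoodComm (half D) (half D) le_rfl (by omega) _
          (uGe_mono hW.good hm hzU)
        have h0 := coord_eq_zero hW P d (fun s hs => by rw [hd]; exact hc s hs) hm (by omega) hmE
        -- the coordinate at `r`
        obtain ⟨j, hj⟩ := hW.toGoodUni.exists_coroot_ne F r
        have hz' : v⁻¹ * X hW.good r δ * gmap D σ v =
            X hW.good r δ * (((X hW.good r δ)⁻¹ * (v⁻¹ * X hW.good r δ * v)) * (v⁻¹ * gmap D σ v)) := by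
          group
        have hrest : ((X hW.good r δ)⁻¹ * (v⁻¹ * X hW.good r δ * v)) * (v⁻¹ * gmap D σ v) ∈
            uGe hW.good F false ((r : ℕ) + 1) :=
          mul_mem (ChevParabolic.conj_pos_mod hW.toGoodComm (by omega) δ hvU)
            (hrk.symm ▸ mul_mem (inv_mem hv) hσv)
        have e1 : ((v⁻¹ * X hW.good r δ * gmap D σ v : GL D.Idx F) : Matrix D.Idx D.Idx F)
            (Sum.inl j) (Sum.inr r.rev) = δ * ((D.coroot.getD r #[]).getD j 0 : F) := by
          rw [hz']
          exact entry_X_mul hW.good (show half D ≤ key false r by show half D ≤ (r : ℕ); omega) _ hrest j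
        have e2 : ((prodFrom hW.good false d (half D) (half D) : GL D.Idx F) :
            Matrix D.Idx D.Idx F) (Sum.inl j) (Sum.inr r.rev) = 0 := by
          by_contra hne
          have hsplit : ∀ k m', half D ≤ m' → m' + k = D.nroots → m' ≤ m →
              prodFrom hW.good false d m' k ∈ uGe hW.good F false m →
              prodFrom hW.good false d m' k ∈ uGe hW.good F false (m + 1) := by
            intro k
            induction k with
            | zero => intro m' _ _ hle _; omega
            | succ k ihk =>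
              intro m' hm' hmk hle hmem
              rw [prodFrom_succ] at hmem ⊢
              have hrk' : (rootOf hW.good false m' : ℕ) = m' :=
                key_rootOf hW.good (b := false) (by omega)
              have htail : prodFrom hW.good false d (m' + 1) k ∈ uGe hW.good F false (m' + 1) :=
                prodFrom_mem hW.good d (by omega) (by omega)
              rcases eq_or_lt_of_le hle with rfl | hlt
              · rw [h0, X_zero, one_mul]
                exact htail
              · have hz0 : d m' = 0 := by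
                  obtain ⟨j', hj'⟩ := hW.toGoodUni.exists_coroot_ne F (rootOf hW.good false m')
                  have h5 := entry_eq_zero hW.good (b := false) (uGe_mono hW.good hlt hmem) j'
                    (r := rootOf hW.good false m') (show half D ≤ key false _ by
                      show half D ≤ (rootOf hW.good false m' : ℕ); omega) (show key false _ ≤ m' from
                        le_of_eq hrk')
                  have htail' : prodFrom hW.good false d (m' + 1) k ∈
                      uGe hW.good F false (key false (rootOf hW.good false m') + 1) := by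
                    show _ ∈ uGe hW.good F false ((rootOf hW.good false m' : ℕ) + 1)
                    rw [hrk']; exact htail
                  rw [entry_X_mul hW.good (show half D ≤ key false _ by
                      show half D ≤ (rootOf hW.good false m' : ℕ); omega) _ htail'] at h5
                  exact (mul_eq_zero.1 h5).resolve_right hj'
                rw [hz0, X_zero, one_mul] at hmem ⊢
                exact ihk (m' + 1) (by omega) (by omega) hlt hmem
          exact hne (entry_eq_zero hW.good (b := false) (hsplit (half D) (half D) le_rfl (by omega) hm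
            (hd ▸ hzU)) j (show half D ≤ key false r by show half D ≤ (r : ℕ); omega)
            (show (r : ℕ) ≤ m from le_of_eq hrk))
        rw [hd, ez] at e2
        rw [e1] at e2
        exact (mul_eq_zero.1 e2).resolve_right hj
      have hσt : σ (t m) = t m := by
        rw [hδ, add_comm, add_neg_eq_zero] at hδ0; exact hδ0
      obtain ⟨l, hl, e, he, hle⟩ := ih (m + 1) (by omega) (by omega) v hv fun s hs => by
        have h1 := hc s hs
        rwa [ez, hδ0, X_zero, mul_one] at h1
      exact ⟨_, mul_mem (ChevSubfield.X_mem_fixElem σ _ r hσt) hl, e, he, by rw [hle, mul_assoc]⟩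

/-- `H ∩ U` is fixed when its exceptional part is. -/
theorem pos_fixed_of_exc (hW : GoodWeyl D) {q : ℕ} {E : List ℕ} (P : CentreData D F q E)
    (σ : F →+* F) {H : Subgroup (GL D.Idx F)} (hL : fixElem hW.good σ ≤ H)
    (hE : ∀ e ∈ H, e ∈ rootGen hW.good F (excSet D E) → gmap D σ e = e) {u : GL D.Idx F}
    (hu : u ∈ H) (huU : u ∈ D.posUnipotent F) : gmap D σ u = u := by
  have hh := hW.good.two_half
  suffices H' : ∀ n m, half D ≤ m → m + n = D.nroots → ∀ u ∈ H, u ∈ uGe hW.good F false m →
      gmap D σ u = u by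
    rw [posUnipotent_eq hW.good] at huU
    exact H' (half D) (half D) le_rfl (by omega) u hu huU
  intro n
  induction n with
  | zero =>
    intro m hm hmn u _ hu
    rw [uGe_eq_bot _ (by omega), Subgroup.mem_bot] at hu
    rw [hu, map_one]
  | succ n ih =>
    intro m hm hmn u hu hum
    have hcomm : ∀ s : Root D, half D ≤ (s : ℕ) →
        Commute (u⁻¹ * gmap D σ u) (X hW.good s 1) := by
      intro s hs
      refine commute_of_conj_fixed (by rw [X_map, map_one]) ?_
      have hxH : X hW.good s (1 : F) ∈ H := hL (ChevSubfield.X_mem_fixElem σ _ _ (map_one σ))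
      have hw : u * X hW.good s 1 * u⁻¹ * (X hW.good s 1)⁻¹ ∈ uGe hW.good F false (m + 1) := by
        clear hu
        induction hum using Subgroup.closure_induction with
        | mem y hy =>
          obtain ⟨r, hr, hrm, v, rfl⟩ := hy
          have h1 := X_commutator_mem hW.toGoodComm (b := false) hr hs (-v) (-1 : F)
          have h2 : X hW.good r v * X hW.good s 1 * (X hW.good r v)⁻¹ * (X hW.good s 1)⁻¹ =
              (X hW.good s (-1) * X hW.good r (-v))⁻¹ * (X hW.good r (-v) * X hW.good s (-1)) := by
            rw [← X_inv, ← X_inv]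
            group
          rw [h2]
          exact uGe_mono hW.good (Nat.add_le_add_right hrm 1) h1
        | one => simp
        | mul x y hx _ ihx ihy =>
          rw [show x * y * X hW.good s 1 * (x * y)⁻¹ * (X hW.good s 1)⁻¹ =
            x * (y * X hW.good s 1 * y⁻¹ * (X hW.good s 1)⁻¹) * x⁻¹ *
              (x * X hW.good s 1 * x⁻¹ * (X hW.good s 1)⁻¹) by group]
          exact mul_mem ((Subgroup.mem_normalizer_iff.1 (uGe_half_le_normalizer hW.toGoodComm _
            (uGe_mono hW.good hm hx)) _).1 ihy) ihx
        | inv x hx ihx =>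
          rw [show x⁻¹ * X hW.good s 1 * x⁻¹⁻¹ * (X hW.good s 1)⁻¹ =
            x⁻¹ * (x * X hW.good s 1 * x⁻¹ * (X hW.good s 1)⁻¹)⁻¹ * x⁻¹⁻¹ by group]
          exact (Subgroup.mem_normalizer_iff.1 (uGe_half_le_normalizer hW.toGoodComm _
            (inv_mem (uGe_mono hW.good hm hx))) _).1 (inv_mem ihx)
      have hfix := ih (m + 1) (by omega) (by omega) _
        (mul_mem (mul_mem (mul_mem hu hxH) (inv_mem hu)) (inv_mem hxH)) hw
      rw [map_mul, map_inv, X_map, map_one] at hfix
      exact mul_right_cancel hfix
    obtain ⟨l, hl, e, he, rfl⟩ := exists_exc_part hW P σ (n + 1) m hm hmn u hum hcomm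
    have heH : e ∈ H := by
      have := mul_mem (inv_mem (hL hl)) hu
      rwa [inv_mul_cancel_left] at this
    rw [map_mul, ChevSubfield.gmap_fixElem σ hW.good hl, hE e heH he]

end CfsgLib.SubfieldOver
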