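import Cfsg.Agent.Chevalley.Structure
import Cfsg.Agent.Chevalley.WeylChecks

/-!
# Table checks for the subfield overgroup theorem
-/

set_option autoImplicit false

namespace CfsgLib.SubfieldOver

open Cfsg.Lie CfsgLib.Chevalley

variable (D : ChevalleyDatum)

/-- Twice the height, read off the tables. -/
def htT (r : ℕ) : ℤ := (List.zipWith (fun a b => a * b) (rhoVec D) ((wtTrie D).get r)).sum


/-- Distinct roots have distinct weights. -/
def chkWtInj : Bool :=
  let W := (List.range D.nroots).map fun r => (wtTrie D).get r
  (List.range D.nroots).all fun r =>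
    (List.range r).all fun s => W.getD r [] != W.getD s []

/-- `s` climbs from `r` with a coefficient prime to `q`. -/
def climbsTo (q r s : ℕ) : Bool :=
  match D.chainRoot r s 1, D.commTerms r s with
  | some w, c :: L =>
      (c.1 == w) && (c.2.2.1 == 1) && (c.2.2.2 == 1) && decide (c.2.1.natAbs ≤ 3) &&
        (c.2.1.natAbs % q != 0) && L.all fun e => e.1 != w
  | _, _ => false

/-- Every positive root outside `E` climbs modulo `q`. -/
def chkClimb (q : ℕ) (E : List ℕ) : Bool :=
  (List.range (half D)).all fun k =>
    E.contains (half D + k) ||
      (List.range (half D)).any fun l => climbsTo D q (half D + k) (half D + l)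

/-- `r` commutes with `U` modulo `q`. -/
def chkCentral (q r : ℕ) : Bool :=
  (List.range (half D)).all fun l =>
    (D.commTerms r (half D + l)).all fun e => e.2.1.natAbs % q == 0

end CfsgLib.SubfieldOver
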