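import Cfsg.Agent.SubfieldOver.Fields

/-!
# The exceptional central part of an overgroup is fixed

For one exceptional root the parameter is that of the top root.  For two, a reflection fixing the
top root and a commutator separate the short one.
-/

set_option autoImplicit false

namespace CfsgLib.SubfieldOver

open Cfsg.Lie CfsgLib CfsgLib.Chevalley
open CfsgLib.ChevSubfield (gmap fixElem)
open scoped MatrixGroups

variable {D : ChevalleyDatum} {F : Type*} [Field F] {hW : GoodWeyl D} {H : Subgroup (GL D.Idx F)}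

/-- The top root commutes with the positive root elements in every characteristic. -/
theorem commute_top (hW : GoodWeyl D) {top : Root D} (hT : half D ≤ (top : ℕ))
    (hchk : chkTop D top = true) {s : Root D} (hs : half D ≤ (s : ℕ)) (t v : F) :
    Commute (X hW.good top t) (X hW.good s v) := by
  rcases eq_or_ne s top with rfl | hne
  · show _ * _ = _ * _
    rw [X_mul, X_mul, add_comm]
  simp only [chkTop, List.all_eq_true, List.mem_range, List.isEmpty_iff] at hchk
  have hh := hW.good.two_half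
  have hnil := hchk ((s : ℕ) - half D) (by have := s.isLt; omega)
  rw [Nat.add_sub_cancel' hs] at hnil
  show _ * _ = _ * _
  rw [X_comm hW.toGoodComm top s hne (hW.good.rev_ne_of_key (b := false) hT hs) t v]
  simp [commRhs, wordGL, hnil]

theorem commute_top_pos (hW : GoodWeyl D) {top : Root D} (hT : half D ≤ (top : ℕ))
    (hchk : chkTop D top = true) {u : GL D.Idx F} (hu : u ∈ D.posUnipotent F) (t : F) :
    Commute (X hW.good top t) u := by
  rw [posUnipotent_eq_rootGen hW.good] at hu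
  induction hu using Subgroup.closure_induction with
  | mem x hx =>
    obtain ⟨s, hs, v, rfl⟩ := hx
    exact commute_top hW hT hchk hs t v
  | one => exact Commute.one_right _
  | mul x y _ _ hx hy => exact hx.mul_right hy
  | inv x _ hx => exact hx.inv_right

theorem mem_pair_form (hW : GoodWeyl D) {top r0 : Root D} (hT : half D ≤ (top : ℕ))
    (h0 : half D ≤ (r0 : ℕ)) (hchk : chkTop D top = true) {e : GL D.Idx F}
    (he : e ∈ rootGen hW.good F {r | r = r0 ∨ r = top}) :
    ∃ t g, e = X hW.good r0 t * X hW.good top g := by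
  induction he using Subgroup.closure_induction with
  | mem x hx =>
    obtain ⟨r, rfl | rfl, v, rfl⟩ := hx
    · exact ⟨v, 0, by rw [X_zero, mul_one]⟩
    · exact ⟨0, v, by rw [X_zero, one_mul]⟩
  | one => exact ⟨0, 0, by simp [X_zero]⟩
  | mul x y _ _ hx hy =>
    obtain ⟨t, g, rfl⟩ := hx
    obtain ⟨t', g', rfl⟩ := hy
    refine ⟨t + t', g + g', ?_⟩
    rw [← X_mul, ← X_mul, mul_assoc, mul_assoc]
    congr 1
    rw [← mul_assoc, (commute_top hW hT hchk h0 g t').eq, mul_assoc]
  | inv x _ hx =>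
    obtain ⟨t, g, rfl⟩ := hx
    refine ⟨-t, -g, ?_⟩
    rw [mul_inv_rev, X_inv, X_inv, (commute_top hW hT hchk h0 (-g) (-t)).eq]

/-- With one exceptional root the exceptional part of `H` is fixed. -/
theorem exc_fixed_one {q : ℕ} {E : List ℕ} (P : CentreData D F q E) {top : Root D}
    (hE : E = [(top : ℕ)]) (σ : F →+* F) (hσ : ∀ t, X hW.good top t ∈ H → σ t = t)
    {e : GL D.Idx F} (he : e ∈ H) (hem : e ∈ rootGen hW.good F (excSet D E)) :
    gmap D σ e = e := by
  have := P.inj
  obtain ⟨t, rfl⟩ : ∃ t, X hW.good top t = e := by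
    clear he
    induction hem using Subgroup.closure_induction with
    | mem x hx =>
      obtain ⟨r, ⟨_, hr⟩, v, rfl⟩ := hx
      rw [hE, List.mem_singleton] at hr
      exact ⟨v, by rw [Fin.ext hr]⟩
    | one => exact ⟨0, X_zero _ _⟩
    | mul x y _ _ hx hy =>
      obtain ⟨a, rfl⟩ := hx
      obtain ⟨b, rfl⟩ := hy
      exact ⟨a + b, (X_mul _ _ _ _).symm⟩
    | inv x _ hx =>
      obtain ⟨a, rfl⟩ := hx
      exact ⟨-a, (X_inv _ _ _).symm⟩
  rw [X_map, hσ t he]

theorem cast_natAbs_mod {p : ℕ} [CharP F p] {n : ℤ} (h : n.natAbs % p = 0) : (n : F) = 0 := by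
  rw [CharP.intCast_eq_zero_iff F p]
  exact Int.natCast_dvd.2 (Nat.dvd_of_mod_eq_zero h)

theorem cast_sq_eq_one {p : ℕ} [CharP F p] (hp : p = 2 ∨ p = 3) {n : ℤ} (h3 : n.natAbs ≤ 3)
    (hq : n.natAbs % p ≠ 0) : (n : F) * n = 1 := by
  rw [← Int.cast_mul, ← Int.cast_one, ← sub_eq_zero, ← Int.cast_sub]
  refine cast_natAbs_mod (p := p) ?_
  rcases hp with rfl | rfl <;>
  · have : n = -3 ∨ n = -2 ∨ n = -1 ∨ n = 0 ∨ n = 1 ∨ n = 2 ∨ n = 3 := by omega
    rcases this with rfl | rfl | rfl | rfl | rfl | rfl | rfl <;> simp_all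

/-- The separation of the short exceptional root. -/
structure ShortData (hW : GoodWeyl D) (p : ℕ) (L : ℕ → Bool) (top r0 : Root D) (i : Fin D.rank) :
    Prop where
  small : p = 2 ∨ p = 3
  orbit : chkOrbit D (fun r => !L r) r0 = true
  rel : chkShortRel D p r0 top i = true
  simple : L (pRoot hW i : Root D) = false
  pairing : D.pairing r0 top = (p : ℤ)
  top_chk : chkTop D top = true
  top_pos : half D ≤ (top : ℕ)

namespace ShortData

variable {p : ℕ} [CharP F p] {L : ℕ → Bool} {top r0 : Root D} {i : Fin D.rank}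

theorem unfold (S : ShortData hW p L top r0 i) :
    half D ≤ (wPerm hW i r0 : ℕ) ∧ half D ≤ (r0 : ℕ) ∧ wPerm hW i top = top ∧
      pRoot hW i ≠ wPerm hW i r0 ∧ pRoot hW i ≠ top ∧
      ∃ (c : ℕ × ℤ × ℕ × ℕ) (T : List (ℕ × ℤ × ℕ × ℕ)) (hlt : c.1 < D.nroots),
        D.commTerms (wPerm hW i r0 : Root D) (pRoot hW i : Root D) = c :: T ∧
        (⟨c.1, hlt⟩ : Root D) = r0 ∧ (∀ e ∈ T, (e.2.1 : F) = 0) ∧ c.2.2.1 = 1 ∧ c.2.2.2 = 1 ∧
        (c.2.1 : F) * c.2.1 = 1 := by
  have hr := S.rel
  simp only [chkShortRel, Bool.and_eq_true, beq_iff_eq, decide_eq_true_eq, bne_iff_ne] at hr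
  obtain ⟨⟨⟨⟨htop, hp1⟩, hne⟩, hne'⟩, hc⟩ := hr
  refine ⟨hp1, (orbit_lt S.orbit).2.1, Fin.ext htop, fun e => hne (congrArg Fin.val e).symm,
    fun e => hne' (congrArg Fin.val e), ?_⟩
  split at hc
  · next c T hT =>
    simp only [Bool.and_eq_true, beq_iff_eq, decide_eq_true_eq, bne_iff_ne, List.all_eq_true] at hc
    obtain ⟨⟨⟨⟨⟨h1, h2⟩, h3⟩, h4⟩, h5⟩, h6⟩ := hc
    exact ⟨c, T, h1 ▸ r0.isLt, hT, Fin.ext h1, fun e he => cast_natAbs_mod (h6 e he), h2, h3,
      cast_sq_eq_one S.small h4 h5⟩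
  · simp at hc

include p in
theorem mul_closed (S : ShortData hW p L top r0 i) (O : Over hW H) {x y : F}
    (hx : x ∈ params hW.good H r0) (hy : y ∈ params hW.good H r0) :
    x * y ∈ params hW.good H r0 := by
  obtain ⟨hp1, -, -, hne, -, c, T, hlt, hT, hc, hz, hi, hj, hN⟩ := S.unfold (F := F)
  have := O.mul_mem_params hne (hW.good.rev_ne_of_key (b := false) hp1 (pRoot_pos hW i)) hT hlt hz
    hi hj hN (t := x) (u := y) (by rw [O.params_wPerm]; exact hx)
    (by rw [O.params_orbit (L := fun r => !L r) S.orbit (r := pRoot hW i) (by simp [S.simple])]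
        exact hy)
  rwa [hc] at this

theorem fixed [Fact p.Prime] (S : ShortData hW p L top r0 i) (O : Over hW H) [Finite H]
    (σ : F →+* F) (hσ : ∀ t, X hW.good top t ∈ H → σ t = t) {x : F}
    (hx : x ∈ params hW.good H r0) : σ x = x := by
  rcases eq_or_ne x 0 with rfl | hx0
  · exact map_zero σ
  obtain ⟨K, hK, -⟩ := exists_frobenius p (finite_params hW.good H r0) (O.one_mem' r0)
    (fun {a b} => S.mul_closed O)
  have hinv : x⁻¹ ∈ params hW.good H r0 := (hK _).1 (inv_mem ((hK _).2 hx))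
  have hr : params hW.good H r0.rev = params hW.good H r0 :=
    O.params_orbit (L := fun r => !L r) S.orbit
      (orbit_closed (hW := hW) S.orbit (orbit_lt S.orbit).2.2).1
  have hT := O.hT_mem (r := r0) hx0
    (fun y hy => by rcases hy with rfl | rfl; exacts [hx, O.one_mem' r0])
    (fun y hy => by rw [hr]; rcases hy with rfl | rfl; exacts [hinv, O.one_mem' r0])
  have h1 := mul_mem (mul_mem hT (O.one_mem' top)) (inv_mem hT)
  rw [hT_conj_X' hW, S.pairing, mul_one, zpow_natCast, Units.val_pow_eq_pow_val, Units.val_mk0] at h1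
  have h2 := hσ _ h1
  rw [map_pow] at h2
  exact frobenius_inj F p h2

/-- The exceptional part of `H` is fixed. -/
theorem exc_fixed [Fact p.Prime] (S : ShortData hW p L top r0 i) (O : Over hW H) [Finite H]
    (σ : F →+* F) (hσ : ∀ t, X hW.good top t ∈ H → σ t = t) {E : List ℕ}
    (hE : E = [(r0 : ℕ), (top : ℕ)]) {e : GL D.Idx F} (he : e ∈ H)
    (hem : e ∈ rootGen hW.good F (excSet D E)) : gmap D σ e = e := by
  obtain ⟨hp1, hp0, htop, hne, hne', c, T, hlt, hT, hc, hz, hi, hj, hN⟩ := S.unfold (F := F)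
  obtain ⟨t, g, rfl⟩ := mem_pair_form hW S.top_pos hp0 S.top_chk (rootGen_mono hW.good
    (fun r hr => by
      have := hr.2
      rw [hE] at this
      simp only [List.mem_cons, List.not_mem_nil, or_false] at this
      exact this.imp Fin.ext Fin.ext) hem)
  set r1 := wPerm hW i r0
  set s := pRoot hW i
  set t1 : F := (eta D i r0 : F) * t
  set g1 : F := (eta D i top : F) * g
  have h1 : X hW.good r1 t1 * X hW.good top g1 ∈ H := by
    have := mul_mem (mul_mem (O.nR_mem i) he) (inv_mem (O.nR_mem i))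
    rwa [show nR hW i * (X hW.good r0 t * X hW.good top g) * (nR hW i)⁻¹ =
      (nR hW i * X hW.good r0 t * (nR hW i)⁻¹) * (nR hW i * X hW.good top g * (nR hW i)⁻¹) by group,
      nR_conj, nR_conj, htop] at this
  have hcs : Commute (X hW.good top g1) (X hW.good s (1 : F)) :=
    commute_top hW S.top_pos S.top_chk (pRoot_pos hW i) _ _
  have hcr : Commute (X hW.good top g1) (X hW.good r1 t1) :=
    commute_top hW S.top_pos S.top_chk hp1 _ _
  have hR : commRhs hW.good (r1 : ℕ) (s : ℕ) t1 (1 : F) ∈ H := by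
    have e1 := X_comm hW.toGoodComm r1 s hne
      (hW.good.rev_ne_of_key (b := false) hp1 (pRoot_pos hW i)) t1 (1 : F)
    have hY : Commute (X hW.good top g1)
        ((X hW.good r1 t1 * X hW.good s 1)⁻¹ * (X hW.good s 1 * X hW.good r1 t1)) :=
      (hcr.mul_right hcs).inv_right.mul_right (hcs.mul_right hcr)
    have e2 : (X hW.good r1 t1 * X hW.good top g1 * X hW.good s 1)⁻¹ *
        (X hW.good s 1 * (X hW.good r1 t1 * X hW.good top g1)) =
        commRhs hW.good (r1 : ℕ) (s : ℕ) t1 (1 : F) := by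
      rw [mul_assoc (X hW.good r1 t1), hcs.eq,
        show ∀ a b y : GL D.Idx F,
          (a * (b * y))⁻¹ * (b * (a * y)) = y⁻¹ * ((a * b)⁻¹ * (b * a)) * y from
          fun a b y => by group,
        mul_assoc (X hW.good top g1)⁻¹, ← hY.eq, inv_mul_cancel_left, e1, inv_mul_cancel_left]
    rw [← e2]
    exact mul_mem (inv_mem (mul_mem h1 (O.one_mem' s))) (mul_mem (O.one_mem' s) h1)
  rw [commRhs_head hW.good hT hlt hz, hc, hi, hj, one_pow, mul_one, pow_one] at hR
  have ht : t ∈ params hW.good H r0 := by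
    have h2 := neg_mem (intCast_mul_mem (mem_params.2 hR) c.2.1)
    rw [← mul_assoc, hN, one_mul, neg_neg] at h2
    have h3 := intCast_mul_mem h2 (eta D i r0)
    rwa [← mul_assoc, ← Int.cast_mul, hW.eta_sq, Int.cast_one, one_mul] at h3
  have hg : σ g = g := hσ g (by
    have := mul_mem (inv_mem (mem_params.1 ht)) he
    rwa [inv_mul_cancel_left] at this)
  rw [map_mul, X_map, X_map, S.fixed O σ hσ ht, hg]

end ShortData

end CfsgLib.SubfieldOver
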