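import Cfsg.Agent.SubfieldOver.OverChecks
import Cfsg.Agent.SubfieldOver.Centre
import Cfsg.Agent.ChevSubfield.Fixed
import Mathlib.FieldTheory.Finite.Basic

/-!
# The parameters of the root elements in an overgroup

They are the same along an orbit of roots; for the top root they form a finite field.
-/

set_option autoImplicit false

namespace CfsgLib.SubfieldOver

open Cfsg.Lie CfsgLib CfsgLib.Chevalley
open CfsgLib.ChevSubfield (gmap fixElem)
open scoped MatrixGroups

variable {D : ChevalleyDatum} {F : Type*} [Field F]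

/-- The parameters `t` with `x_r(t) ∈ H`. -/
def params (hD : Good D) (H : Subgroup (GL D.Idx F)) (r : Root D) : AddSubgroup F where
  carrier := {t | X hD r t ∈ H}
  zero_mem' := by simp [X_zero]
  add_mem' := fun {a b} ha hb => by
    show X hD r (a + b) ∈ H
    rw [← X_mul]; exact mul_mem ha hb
  neg_mem' := fun {a} ha => by
    show X hD r (-a) ∈ H
    rw [← X_inv]; exact inv_mem ha

theorem mem_params {hD : Good D} {H : Subgroup (GL D.Idx F)} {r : Root D} {t : F} :
    t ∈ params hD H r ↔ X hD r t ∈ H := Iff.rfl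

theorem finite_params (hD : Good D) (H : Subgroup (GL D.Idx F)) [Finite H] (r : Root D) :
    (params hD H r : Set F).Finite :=
  Set.finite_coe_iff.1 (Finite.of_injective (fun t : (params hD H r : Set F) => (⟨_, t.2⟩ : H))
    fun a b e => Subtype.ext (X_injective hD r (congrArg Subtype.val e)))

theorem intCast_mul_mem {A : AddSubgroup F} {x : F} (hx : x ∈ A) (n : ℤ) : (n : F) * x ∈ A := by
  rw [← zsmul_eq_mul]; exact A.zsmul_mem hx n

theorem val_rev_eq (r : Root D) : (r.rev : ℕ) = opp D r := by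
  rw [opp, Fin.val_rev]; omega

theorem val_wPerm (hW : GoodWeyl D) (i : Fin D.rank) (r : Root D) :
    (wPerm hW i r : ℕ) = reflT D i r := rfl

/-- The common hypotheses on an overgroup. -/
structure Over (hW : GoodWeyl D) (H : Subgroup (GL D.Idx F)) : Prop where
  le_group : H ≤ D.group F
  one_mem' : ∀ r, X hW.good r (1 : F) ∈ H

variable {hW : GoodWeyl D} {H : Subgroup (GL D.Idx F)}

theorem Over.nR_mem (O : Over hW H) (i : Fin D.rank) : (nR hW i : GL D.Idx F) ∈ H :=
  mul_mem (mul_mem (O.one_mem' _) (by rw [← X_inv]; exact inv_mem (O.one_mem' _))) (O.one_mem' _)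

theorem Over.params_wPerm (O : Over hW H) (i : Fin D.rank) (r : Root D) :
    params hW.good H (wPerm hW i r) = params hW.good H r := by
  suffices H' : ∀ r, params hW.good H r ≤ params hW.good H (wPerm hW i r) by
    refine le_antisymm ?_ (H' r)
    have := H' (wPerm hW i r)
    rwa [hW.wPerm_wPerm] at this
  intro r t ht
  have h1 : (eta D i r : F) * t ∈ params hW.good H (wPerm hW i r) := by
    rw [mem_params, ← nR_conj]
    exact mul_mem (mul_mem (O.nR_mem i) ht) (inv_mem (O.nR_mem i))
  have h2 := intCast_mul_mem h1 (eta D i r)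
  rwa [← mul_assoc, ← Int.cast_mul, hW.eta_sq, Int.cast_one, one_mul] at h2

/-! ### Orbits -/

theorem orbit_closed {L : ℕ → Bool} {top : ℕ} (hO : chkOrbit D L top = true) {r : Root D}
    (hr : L r = true) : L r.rev = true ∧ ∀ i : Fin D.rank, L (wPerm hW i r : Root D) = true := by
  simp only [chkOrbit, Bool.and_eq_true, List.all_eq_true, List.mem_range, Bool.or_eq_true,
    Bool.not_eq_true'] at hO
  obtain ⟨⟨h1, h2⟩, -⟩ := (hO.2 r r.isLt).resolve_left (by simp [hr])
  exact ⟨by rw [val_rev_eq]; exact h1, fun i => h2 i i.isLt⟩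

theorem orbit_lt {L : ℕ → Bool} {top : ℕ} (hO : chkOrbit D L top = true) :
    top < D.nroots ∧ half D ≤ top ∧ L top = true := by
  simp only [chkOrbit, Bool.and_eq_true, decide_eq_true_eq] at hO
  exact ⟨hO.1.1.1, hO.1.1.2, hO.1.2⟩

theorem Over.params_orbit (O : Over hW H) {L : ℕ → Bool} {top : Root D}
    (hO : chkOrbit D L top = true) {r : Root D} (hr : L r = true) :
    params hW.good H r = params hW.good H top := by
  suffices H' : ∀ n, ∀ r : Root D, L r = true → D.nroots ≤ r + n →
      params hW.good H r = params hW.good H top from H' D.nroots r hr (Nat.le_add_left _ _)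
  intro n
  induction n with
  | zero => intro r _ hn; have := r.isLt; omega
  | succ n ih =>
    intro r hr hn
    have hO' := hO
    simp only [chkOrbit, Bool.and_eq_true, List.all_eq_true, List.mem_range, Bool.or_eq_true,
      Bool.not_eq_true', beq_iff_eq, List.any_eq_true, decide_eq_true_eq] at hO'
    rcases ((hO'.2 r r.isLt).resolve_left (by simp [hr])).2 with e | ⟨i, hi, hlt⟩
    · rw [Fin.ext e]
    · rw [← O.params_wPerm ⟨i, hi⟩ r]
      refine ih _ ((orbit_closed hO hr).2 _) ?_
      rw [val_wPerm]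
      show D.nroots ≤ reflT D i r + n
      omega

theorem orbit_monBy {L : ℕ → Bool} {top : ℕ}
    (hO : chkOrbit D L top = true) {g : GL D.Idx F} (hg : g ∈ D.monomialSubgroup F) :
    ∀ {π : Equiv.Perm (Root D)}, MonBy hW g π → ∀ r : Root D,
      (L r = true ↔ L (π r : Root D) = true) := by
  suffices H' : g ∈ D.monomialSubgroup F ∧ ∀ π, MonBy hW g π → ∀ r : Root D,
      (L r = true ↔ L (π r : Root D) = true) from fun {π} hπ r => H'.2 π hπ r
  refine monomial_induction hW (P := fun g => g ∈ D.monomialSubgroup F ∧ ∀ π, MonBy hW g π →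
    ∀ r : Root D, (L r = true ↔ L (π r : Root D) = true)) hg ?_ (fun i => ?_) ?_ ?_
  · intro a ha
    refine ⟨diag_le_monomial D ha, fun π hπ r => ?_⟩
    rw [hπ.unique (monBy_diag hW ha)]
    rfl
  · refine ⟨nR_mem_monomial hW i, fun π hπ r => ?_⟩
    rw [hπ.unique (monBy_nR hW i)]
    refine ⟨fun hr => (orbit_closed hO hr).2 i, fun hr => ?_⟩
    have := (orbit_closed (hW := hW) hO hr).2 i
    rwa [hW.wPerm_wPerm] at this
  · rintro a b ⟨ha, iha⟩ ⟨hb, ihb⟩
    refine ⟨mul_mem ha hb, fun π hπ r => ?_⟩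
    obtain ⟨ρ, hρ⟩ := exists_monBy hW ha
    obtain ⟨τ, hτ⟩ := exists_monBy hW hb
    rw [hπ.unique (hρ.mul hτ), Equiv.Perm.mul_apply, ihb τ hτ r]
    exact iha ρ hρ _
  · rintro a ⟨ha, iha⟩
    refine ⟨inv_mem ha, fun π hπ r => ?_⟩
    obtain ⟨ρ, hρ⟩ := exists_monBy hW ha
    rw [hπ.unique hρ.inv, iha ρ hρ (ρ⁻¹ r), show ρ (ρ⁻¹ r) = r from ρ.apply_symm_apply r]

/-! ### Commutators -/

theorem Over.commRhs_mem (_ : Over hW H) {r s : Root D} (hsr : s ≠ r) (hne : s ≠ r.rev) {t u : F}
    (ht : t ∈ params hW.good H r) (hu : u ∈ params hW.good H s) :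
    commRhs hW.good (r : ℕ) (s : ℕ) t u ∈ H := by
  have e := X_comm hW.toGoodComm r s hsr hne t u
  rw [show commRhs hW.good (r : ℕ) (s : ℕ) t u =
    (X hW.good r t * X hW.good s u)⁻¹ * (X hW.good s u * X hW.good r t) by rw [e]; group]
  exact mul_mem (inv_mem (mul_mem ht hu)) (mul_mem hu ht)

theorem commRhs_head (hD : Good D) {r s : ℕ} {c : ℕ × ℤ × ℕ × ℕ} {L : List (ℕ × ℤ × ℕ × ℕ)}
    (hL : D.commTerms r s = c :: L) (hlt : c.1 < D.nroots) (hz : ∀ e ∈ L, (e.2.1 : F) = 0)
    (t u : F) :
    commRhs hD r s t u = X hD ⟨c.1, hlt⟩ ((c.2.1 : F) * (-t) ^ c.2.2.1 * u ^ c.2.2.2) := by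
  rw [commRhs, hL, List.map_cons, wordGL, List.map_cons, List.prod_cons, dif_pos hlt,
    List.prod_eq_one, mul_one]
  intro x hx
  simp only [List.map_map, List.mem_map, Function.comp_apply] at hx
  obtain ⟨e, he, rfl⟩ := hx
  split
  · rw [hz e he, zero_mul, zero_mul, X_zero]
  · rfl

/-- A single bilinear commutator term multiplies parameters. -/
theorem Over.mul_mem_params (O : Over hW H) {r s : Root D} (hsr : s ≠ r) (hne : s ≠ r.rev)
    {c : ℕ × ℤ × ℕ × ℕ} {L : List (ℕ × ℤ × ℕ × ℕ)} (hL : D.commTerms r s = c :: L)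
    (hlt : c.1 < D.nroots) (hz : ∀ e ∈ L, (e.2.1 : F) = 0) (hi : c.2.2.1 = 1) (hj : c.2.2.2 = 1)
    (hN : (c.2.1 : F) * c.2.1 = 1) {t u : F} (ht : t ∈ params hW.good H r)
    (hu : u ∈ params hW.good H s) : t * u ∈ params hW.good H ⟨c.1, hlt⟩ := by
  have h1 : (c.2.1 : F) * (-t) * u ∈ params hW.good H ⟨c.1, hlt⟩ := by
    have := O.commRhs_mem hsr hne ht hu
    rwa [commRhs_head hW.good hL hlt hz, hi, hj, pow_one, pow_one] at this
  have h2 := neg_mem (intCast_mul_mem h1 c.2.1)
  have e : -((c.2.1 : F) * ((c.2.1 : F) * (-t) * u)) = t * u := by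
    linear_combination (t * u) * hN
  rwa [e] at h2

/-- The parameters of the top root are closed under products when there is a long `A₂`. -/
theorem Over.mul_closed_A2 (O : Over hW H) {L : ℕ → Bool} {top : Root D}
    (hO : chkOrbit D L top = true) (hA : chkA2 D L = true) {x y : F}
    (hx : x ∈ params hW.good H top) (hy : y ∈ params hW.good H top) :
    x * y ∈ params hW.good H top := by
  simp only [chkA2, List.any_eq_true, List.mem_range, Bool.and_eq_true, bne_iff_ne] at hA
  obtain ⟨a, ha, hLa, b, hb, ⟨⟨hLb, hab⟩, hab'⟩, hc⟩ := hA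
  split at hc
  · next c hL =>
    simp only [Bool.and_eq_true, decide_eq_true_eq, beq_iff_eq] at hc
    obtain ⟨⟨⟨⟨hLc, hlt⟩, hN⟩, hi⟩, hj⟩ := hc
    have hN' : (c.2.1 : F) * c.2.1 = 1 := by
      rcases Int.natAbs_eq c.2.1 with e | e <;> rw [e, hN] <;> simp
    have := O.mul_mem_params (r := ⟨a, ha⟩) (s := ⟨b, hb⟩)
      (fun e => hab (congrArg Fin.val e).symm)
      (fun e => hab' ((congrArg Fin.val e).trans (val_rev_eq _)))
      (show D.commTerms (⟨a, ha⟩ : Root D) (⟨b, hb⟩ : Root D) = [c] from hL) hlt (by simp) hi hj hN'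
      (by rw [O.params_orbit hO (r := ⟨a, ha⟩) hLa]; exact hx)
      (by rw [O.params_orbit hO (r := ⟨b, hb⟩) hLb]; exact hy)
    rwa [O.params_orbit hO (r := ⟨c.1, hlt⟩) hLc] at this
  · simp at hc

/-- A finite additive group with `1`, closed under products, is the fixed field of a power of
Frobenius. -/
theorem exists_frobenius (p : ℕ) [Fact p.Prime] [CharP F p] {T : AddSubgroup F}
    (hfin : (T : Set F).Finite) (h1 : (1 : F) ∈ T) (hmul : ∀ {x y}, x ∈ T → y ∈ T → x * y ∈ T) :
    ∃ S : Subfield F, (∀ t, t ∈ S ↔ t ∈ T) ∧ ∃ n : ℕ, 1 ≤ n ∧ Nat.card S = p ^ n ∧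
      ∀ t, t ∈ T ↔ t ^ p ^ n = t := by
  classical
  have hinv : ∀ x ∈ T, x⁻¹ ∈ T := by
    intro x hx
    rcases eq_or_ne x 0 with rfl | hx0
    · simpa using T.zero_mem
    have hs : Set.BijOn (fun y => x * y) (T : Set F) T :=
      (hfin.injOn_iff_bijOn_of_mapsTo fun y hy => hmul hx hy).1
        (mul_right_injective₀ hx0).injOn
    obtain ⟨y, hy, hxy⟩ := hs.surjOn h1
    rwa [inv_eq_of_mul_eq_one_right hxy]
  let S : Subfield F :=
    { carrier := T, one_mem' := h1, zero_mem' := T.zero_mem, mul_mem' := hmul,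
      add_mem' := T.add_mem, neg_mem' := T.neg_mem, inv_mem' := hinv }
  have : Finite S := hfin.to_subtype
  let : Fintype S := Fintype.ofFinite S
  have : CharP S p := RingHom.charP S.subtype Subtype.val_injective p
  obtain ⟨n, hp, hn⟩ := FiniteField.card S p
  refine ⟨S, fun t => Iff.rfl, n, n.pos, by rw [Nat.card_eq_fintype_card, hn], fun t => ⟨fun ht => ?_,
    fun ht => ?_⟩⟩
  · have := congrArg Subtype.val (FiniteField.pow_card (⟨t, ht⟩ : S))
    rw [hn] at this
    simpa using this
  · have h2 : 1 < p ^ (n : ℕ) := Nat.one_lt_pow n.pos.ne' hp.one_lt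
    set P : Polynomial F := Polynomial.X ^ p ^ (n : ℕ) - Polynomial.X with hP
    have hP0 : P ≠ 0 := FiniteField.X_pow_card_sub_X_ne_zero F h2
    have hdeg : P.natDegree = p ^ (n : ℕ) := FiniteField.X_pow_card_sub_X_natDegree_eq F h2
    have hsub : hfin.toFinset ⊆ P.roots.toFinset := by
      intro x hx
      rw [Set.Finite.mem_toFinset] at hx
      have := congrArg Subtype.val (FiniteField.pow_card (⟨x, hx⟩ : S))
      rw [hn] at this
      simp only [SubmonoidClass.coe_pow] at this
      rw [Multiset.mem_toFinset, Polynomial.mem_roots hP0]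
      simp [hP, this]
    have hle : P.roots.toFinset.card ≤ hfin.toFinset.card := by
      have e : hfin.toFinset.card = p ^ (n : ℕ) := by
        rw [← hn, ← Nat.card_eq_fintype_card, ← Nat.card_eq_card_finite_toFinset hfin]
        rfl
      rw [e, ← hdeg]
      exact (Multiset.toFinset_card_le _).trans (Polynomial.card_roots' P)
    have h3 : t ∈ P.roots.toFinset := by
      rw [Multiset.mem_toFinset, Polynomial.mem_roots hP0]
      simp [hP, ht]
    rw [← Finset.eq_of_subset_of_card_le hsub hle, Set.Finite.mem_toFinset] at h3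
    exact h3

/-! ### The torus -/

theorem hT_conj_X' (hW : GoodWeyl D) (r s : Root D) (u : Fˣ) (t : F) :
    hT F r u * X hW.good s t * (hT F r u)⁻¹ =
      X hW.good s (((u ^ D.pairing r s : Fˣ) : F) * t) := by
  have h : tor (fun v : Root D => u ^ D.pairing r v) =
      (tor fun v : Root D => ChevTorus.torVal (fun k => u ^ (D.coroot.getD r #[]).getD k 0)
        (Sum.inr v) : GL D.Idx F) := (hT_eq_torC r u).trans rfl
  rw [hT_eq_torC, ChevTorus.torC_conj_X hW.good, ← congrFun (tor_injective h) s]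

theorem Over.hT_mem (_ : Over hW H) {r : Root D} {x : F} (hx : x ≠ 0)
    (h1 : ∀ y, y = x ∨ y = 1 → y ∈ params hW.good H r)
    (h2 : ∀ y, y = x⁻¹ ∨ y = 1 → y ∈ params hW.good H r.rev) :
    hT F r (Units.mk0 x hx) ∈ H := by
  have key : ∀ u : Fˣ, (u : F) ∈ params hW.good H r → ((u⁻¹ : Fˣ) : F) ∈ params hW.good H r.rev →
      nElt hW.good r u ∈ H := fun u a b => mul_mem (mul_mem a (neg_mem b)) a
  rw [← hElt_eq hW, nElt_neg]
  exact mul_mem (key _ (h1 _ (Or.inl rfl)) (h2 _ (Or.inl (by simp))))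
    (inv_mem (key 1 (h1 _ (Or.inr (by simp))) (h2 _ (Or.inr (by simp)))))

/-- The parameters of the top root lie in those of every root. -/
theorem Over.params_le (O : Over hW H) {L : ℕ → Bool} {top : Root D}
    (hO : chkOrbit D L top = true) (hTor : chkTorus D L = true)
    (hinv : ∀ x ∈ params hW.good H top, x⁻¹ ∈ params hW.good H top) (r : Root D) :
    params hW.good H top ≤ params hW.good H r := by
  refine hW.root_induction (P := fun r => params hW.good H top ≤ params hW.good H r) (fun i => ?_)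
    (fun i r hr => by rw [O.params_wPerm]; exact hr) r
  simp only [chkTorus, List.all_eq_true, List.mem_range, Bool.or_eq_true, List.any_eq_true,
    Bool.and_eq_true, beq_iff_eq] at hTor
  rcases hTor i i.isLt with hi | ⟨a, ha, hLa, hpair⟩
  · rw [O.params_orbit hO (r := pRoot hW i) hi]
  intro x hx
  rcases eq_or_ne x 0 with rfl | hx0
  · exact zero_mem _
  have e1 : ∀ r : Root D, L r = true → ∀ y, y = x ∨ y = x⁻¹ ∨ y = 1 → y ∈ params hW.good H r := by
    intro r hr y hy
    rw [O.params_orbit hO hr]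
    rcases hy with rfl | rfl | rfl
    exacts [hx, hinv x hx, O.one_mem' top]
  set α : Root D := ⟨a, ha⟩
  have hα : L α = true := hLa
  have hmem : hT F α (Units.mk0 x hx0) ∈ H := O.hT_mem hx0
    (fun y hy => e1 α hα y (hy.imp_right Or.inr))
    (fun y hy => e1 _ (orbit_closed (hW := hW) hO hα).1 y (Or.inr hy))
  have hconj : ∀ w : GL D.Idx F, w ∈ H →
      w * X hW.good (pRoot hW i) 1 * w⁻¹ ∈ H := fun w hw =>
    mul_mem (mul_mem hw (O.one_mem' _)) (inv_mem hw)
  rcases Int.natAbs_eq (D.pairing α (pRoot hW i : Root D)) with e | e <;>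
    rw [show (D.pairing α (pRoot hW i : Root D)).natAbs = 1 from hpair] at e
  · have h1 := hconj _ hmem
    rw [hT_conj_X' hW, e, mul_one] at h1
    rw [mem_params]
    simpa using h1
  · have h1 := hconj _ (inv_mem hmem)
    rw [hT_inv, hT_conj_X' hW, e, mul_one] at h1
    rw [mem_params]
    simpa using h1

end CfsgLib.SubfieldOver
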