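import Cfsg.Agent.SubfieldOver.Checks
import Cfsg.Agent.Chevalley.UnipotentMain
import Cfsg.Agent.Chevalley.Parabolic

/-!
# The first term of the height filtration

For elements spanned by roots of height at least `h` the coordinate at a root `w` of height `h` is
additive and invariant under conjugation by `U`.  Commutators with `x_s(1)` are read off from it.
-/

set_option autoImplicit false

namespace CfsgLib.SubfieldOver

open Cfsg.Lie CfsgLib CfsgLib.Chevalley
open scoped MatrixGroups

variable {D : ChevalleyDatum} {F : Type*} [Field F]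

/-- The group spanned by the roots of height at least `h`. -/
def layerGen (hD : Good D) (F : Type*) [Field F] (h : ℤ) : Subgroup (GL D.Idx F) :=
  rootGen hD F {c : Root D | h ≤ ht D (Sum.inr c)}

/-- The coordinate vector at `w`. -/
def layerVal (w : Root D) (g : GL D.Idx F) : Fin D.rank → F :=
  fun j => (g : Matrix D.Idx D.Idx F) (Sum.inl j) (Sum.inr w.rev)

/-- Matrices raising heights by at least `h`. -/
def IsLay (h : ℤ) (g : GL D.Idx F) : Prop :=
  (∀ a, (g : Matrix D.Idx D.Idx F) a a = 1) ∧
    ∀ a b, a ≠ b → (g : Matrix D.Idx D.Idx F) a b ≠ 0 → ht D b + h ≤ ht D a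

theorem IsLay.one {h : ℤ} : IsLay h (1 : GL D.Idx F) :=
  ⟨fun a => Matrix.one_apply_eq a, fun _ _ hab he => absurd (Matrix.one_apply_ne hab) he⟩

theorem IsLay.mul {h : ℤ} (hh : 0 < h) {x y : GL D.Idx F} (hx : IsLay h x) (hy : IsLay h y) :
    IsLay h (x * y) := by
  refine ⟨fun a => ?_, fun a b hab hne => ?_⟩
  · rw [Units.val_mul, Matrix.mul_apply, Finset.sum_eq_single a ?_ (by simp), hx.1, hy.1, one_mul]
    intro e _ hea
    by_contra hne
    have h1 := hx.2 a e (Ne.symm hea) (left_ne_zero_of_mul hne)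
    have h2 := hy.2 e a hea (right_ne_zero_of_mul hne)
    omega
  · rw [Units.val_mul, Matrix.mul_apply] at hne
    obtain ⟨e, -, he⟩ := Finset.exists_ne_zero_of_sum_ne_zero hne
    rcases eq_or_ne a e with rfl | hae
    · exact hy.2 a b hab (right_ne_zero_of_mul he)
    rcases eq_or_ne e b with rfl | heb
    · exact hx.2 a e hae (left_ne_zero_of_mul he)
    have h1 := hx.2 a e hae (left_ne_zero_of_mul he)
    have h2 := hy.2 e b heb (right_ne_zero_of_mul he)
    omega

/-- Elements of a layer raise heights by at least `h`. -/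
theorem layer_entries (hD : Good D) {h : ℤ} (hh : 0 < h) {g : GL D.Idx F}
    (hg : g ∈ layerGen hD F h) : IsLay h g := by
  have gen : ∀ c : Root D, h ≤ ht D (Sum.inr c) → ∀ t : F,
      (∀ a, xR D F c t a a = 1) ∧
        ∀ a b, a ≠ b → xR D F c t a b ≠ 0 → ht D b + h ≤ ht D a := by
    intro c hc t
    have hk : ∀ (k : ℕ) (a b : D.Idx), k ≠ 0 → E D c k a b ≠ 0 → ht D b + h ≤ ht D a := by
      intro k a b hk he
      rw [hD.ht_of_E_ne_zero c k he]
      have : (1 : ℤ) ≤ k := by exact_mod_cast Nat.one_le_iff_ne_zero.2 hk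
      nlinarith
    refine ⟨fun a => ?_, fun a b hab hne => ?_⟩
    · simp only [xR, Matrix.sum_apply, Matrix.smul_apply, Matrix.map_apply, smul_eq_mul]
      rw [Finset.sum_eq_single_of_mem 0 (by simp) fun k _ hk0 => ?_]
      · simp [E_zero]
      · rw [show E D c k a a = 0 by
          by_contra he
          have := hk k a a hk0 he
          omega]
        simp
    · by_contra hlt
      apply hne
      simp only [xR, Matrix.sum_apply, Matrix.smul_apply, Matrix.map_apply, smul_eq_mul]
      refine Finset.sum_eq_zero fun k _ => ?_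
      by_cases hk0 : k = 0
      · subst hk0; simp [E_zero, Matrix.one_apply_ne hab]
      · rw [show E D c k a b = 0 by
          by_contra he
          exact hlt (hk k a b hk0 he)]
        simp
  induction hg using Subgroup.closure_induction'' with
  | mem x hx =>
    obtain ⟨c, hc, t, rfl⟩ := hx
    exact gen c hc t
  | inv_mem x hx =>
    obtain ⟨c, hc, t, rfl⟩ := hx
    rw [X_inv]; exact gen c hc (-t)
  | one => exact IsLay.one
  | mul x y _ _ hx hy => exact hx.mul hh hy

theorem pos_le_layer_one (hD : Good D) : D.posUnipotent F ≤ layerGen hD F 1 := by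
  rw [posUnipotent_eq_rootGen hD]
  exact rootGen_mono hD fun c hc => show (1 : ℤ) ≤ _ from (hD.pos_iff_ht c).1 hc

variable {w : Root D}

theorem layerVal_mul (hD : Good D) (hw : half D ≤ (w : ℕ)) {g g' : GL D.Idx F}
    (H : IsLay (ht D (Sum.inr w)) g) (H' : IsLay (ht D (Sum.inr w)) g') :
    layerVal w (g * g') = layerVal w g + layerVal w g' := by
  classical
  have h0 := (hD.pos_iff_ht w).1 hw
  funext j
  simp only [layerVal, Units.val_mul, Matrix.mul_apply, Pi.add_apply]
  rw [Finset.sum_eq_add (Sum.inl j) (Sum.inr w.rev) (by simp) (fun e _ he => ?_) (by simp) (by simp),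
    H.1, H'.1, one_mul, mul_one, add_comm]
  by_contra hne
  have h1 := H.2 _ _ (Ne.symm he.1) (left_ne_zero_of_mul hne)
  have h2 := H'.2 _ _ he.2 (right_ne_zero_of_mul hne)
  rw [hD.ht_rev] at h2
  simp only [ht_inl] at h1
  omega

theorem layerVal_one : layerVal w (1 : GL D.Idx F) = 0 :=
  funext fun j => Matrix.one_apply_ne (by simp)

theorem layerVal_X (hD : Good D) (c : Root D) (t : F) :
    layerVal w (X hD c t) =
      if c = w then fun j : Fin D.rank => t * ((D.coroot.getD c #[]).getD j 0 : F) else 0 := by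
  funext j
  simp only [layerVal, coe_X, xR_entry_coroot hD, Fin.rev_inj]
  by_cases hc : c = w <;> simp [hc, Ne.symm]

/-- Conjugation by `U` does not change the coordinate. -/
theorem layerVal_conj (hD : Good D) (hw : half D ≤ (w : ℕ)) {a g : GL D.Idx F}
    (ha : a ∈ D.posUnipotent F) (H : IsLay (ht D (Sum.inr w)) g) :
    layerVal w (a * g * a⁻¹) = layerVal w g := by
  classical
  have h0 := (hD.pos_iff_ht w).1 hw
  have HA := layer_entries hD one_pos (pos_le_layer_one hD ha)
  have HA' := layer_entries hD one_pos (pos_le_layer_one hD (inv_mem ha))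
  funext j
  set G : Matrix D.Idx D.Idx F := (g : Matrix D.Idx D.Idx F) - 1 with hG
  have hGd : ∀ x y, G x y ≠ 0 → x ≠ y ∧ ht D y + ht D (Sum.inr w) ≤ ht D x := by
    intro x y hxy
    have hne : x ≠ y := fun e => hxy (by subst e; simp [hG, H.1])
    refine ⟨hne, H.2 x y hne ?_⟩
    simpa [hG, Matrix.one_apply_ne hne] using hxy
  have hle : ∀ (u : GL D.Idx F), ((∀ x, (u : Matrix D.Idx D.Idx F) x x = 1) ∧
      ∀ x y, x ≠ y → (u : Matrix D.Idx D.Idx F) x y ≠ 0 → ht D y + 1 ≤ ht D x) →
      ∀ x y, (u : Matrix D.Idx D.Idx F) x y ≠ 0 → x = y ∨ ht D y + 1 ≤ ht D x :=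
    fun u hu x y hxy => or_iff_not_imp_left.2 fun hne => hu.2 x y hne hxy
  have e1 : ((a * g * a⁻¹ : GL D.Idx F) : Matrix D.Idx D.Idx F) =
      1 + (a : Matrix D.Idx D.Idx F) * G * ((a⁻¹ : GL D.Idx F) : Matrix D.Idx D.Idx F) := by
    rw [hG, Units.val_mul, Units.val_mul, mul_sub, sub_mul, mul_one, Units.mul_inv]
    abel
  show ((a * g * a⁻¹ : GL D.Idx F) : Matrix D.Idx D.Idx F) (Sum.inl j) (Sum.inr w.rev) =
    (g : Matrix D.Idx D.Idx F) (Sum.inl j) (Sum.inr w.rev)
  have e2 : (g : Matrix D.Idx D.Idx F) (Sum.inl j) (Sum.inr w.rev) =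
      G (Sum.inl j) (Sum.inr w.rev) := by simp [hG]
  rw [e1, e2, Matrix.add_apply, Matrix.one_apply_ne (by simp), zero_add, Matrix.mul_apply,
    Finset.sum_eq_single (Sum.inr w.rev) (fun f _ hf => ?_) (by simp), HA'.1, mul_one,
    Matrix.mul_apply, Finset.sum_eq_single (Sum.inl j) (fun e _ he => ?_) (by simp), HA.1, one_mul]
  · by_contra hne
    have h1 := hle a HA _ _ (left_ne_zero_of_mul hne)
    obtain ⟨-, h2⟩ := hGd _ _ (right_ne_zero_of_mul hne)
    rcases h1 with h1 | h1
    · exact he h1.symm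
    · simp only [ht_inl, hD.ht_rev] at h1 h2
      omega
  · by_contra hne
    obtain ⟨h3, hne2⟩ := mul_ne_zero_iff.1 hne
    rw [Matrix.mul_apply] at h3
    obtain ⟨e, -, he⟩ := Finset.exists_ne_zero_of_sum_ne_zero h3
    have h1 := hle a HA _ _ (left_ne_zero_of_mul he)
    obtain ⟨-, h2⟩ := hGd _ _ (right_ne_zero_of_mul he)
    rcases hle (a⁻¹) HA' _ _ hne2 with h4 | h4
    · exact hf h4
    · have h5 : ht D e ≤ ht D (Sum.inl j : D.Idx) := by
        rcases h1 with h1 | h1
        · rw [h1]
        · omega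
      simp only [ht_inl, hD.ht_rev] at h2 h4 h5
      omega

theorem IsLay.conj (hD : Good D) {h : ℤ} (hh : 0 < h) {a g : GL D.Idx F}
    (ha : a ∈ D.posUnipotent F) (H : IsLay h g) : IsLay h (a * g * a⁻¹) := by
  classical
  have HA := layer_entries hD one_pos (pos_le_layer_one hD ha)
  have HA' := layer_entries hD one_pos (pos_le_layer_one hD (inv_mem ha))
  set G : Matrix D.Idx D.Idx F := (g : Matrix D.Idx D.Idx F) - 1 with hG
  have key : ∀ x y, ((a : Matrix D.Idx D.Idx F) * G * ((a⁻¹ : GL D.Idx F) :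
      Matrix D.Idx D.Idx F)) x y ≠ 0 → ht D y + h ≤ ht D x := by
    intro x y hxy
    rw [Matrix.mul_apply] at hxy
    obtain ⟨f, -, hf⟩ := Finset.exists_ne_zero_of_sum_ne_zero hxy
    obtain ⟨hf1, hf2⟩ := mul_ne_zero_iff.1 hf
    rw [Matrix.mul_apply] at hf1
    obtain ⟨e, -, he⟩ := Finset.exists_ne_zero_of_sum_ne_zero hf1
    obtain ⟨he1, he2⟩ := mul_ne_zero_iff.1 he
    have hne : e ≠ f := fun eq => he2 (by subst eq; simp [hG, H.1])
    have h2 := H.2 e f hne (by simpa [hG, Matrix.one_apply_ne hne] using he2)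
    have h1 : ht D e ≤ ht D x := by
      rcases eq_or_ne x e with rfl | hxe
      · exact le_rfl
      · have := HA.2 x e hxe he1; omega
    have h3 : ht D y ≤ ht D f := by
      rcases eq_or_ne f y with rfl | hfy
      · exact le_rfl
      · have := HA'.2 f y hfy hf2; omega
    omega
  have e1 : ((a * g * a⁻¹ : GL D.Idx F) : Matrix D.Idx D.Idx F) =
      1 + (a : Matrix D.Idx D.Idx F) * G * ((a⁻¹ : GL D.Idx F) : Matrix D.Idx D.Idx F) := by
    rw [hG, Units.val_mul, Units.val_mul, mul_sub, sub_mul, mul_one, Units.mul_inv]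
    abel
  refine ⟨fun x => ?_, fun x y hxy hne => key x y ?_⟩
  · rw [e1, Matrix.add_apply, Matrix.one_apply_eq, add_eq_left]
    by_contra hne
    have := key x x hne
    omega
  · rwa [e1, Matrix.add_apply, Matrix.one_apply_ne hxy, zero_add] at hne

theorem layerGen_list_val (hD : Good D) (hw : half D ≤ (w : ℕ)) {L : List (GL D.Idx F)}
    (hL : ∀ x ∈ L, IsLay (ht D (Sum.inr w)) x) :
    layerVal w L.prod = (L.map (layerVal w)).sum := by
  induction L with
  | nil => simpa using layerVal_one
  | cons x L ih =>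
    have hLm : IsLay (ht D (Sum.inr w)) L.prod := by
      clear ih
      induction L with
      | nil => exact IsLay.one
      | cons y L ih' =>
        rw [List.prod_cons]
        exact (hL y (by simp)).mul ((hD.pos_iff_ht w).1 hw)
          (ih' fun z hz => hL z (by simp only [List.mem_cons] at hz ⊢; tauto))
    rw [List.prod_cons, layerVal_mul hD hw (hL x (by simp)) hLm, List.map_cons, List.sum_cons,
      ih fun y hy => hL y (List.mem_cons_of_mem _ hy)]

theorem ht_of_cartan (r s c : Root D) (i j : ℕ)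
    (e : ∀ l : Fin D.rank, D.cartan l c = i * D.cartan l r + j * D.cartan l s) :
    ht D (Sum.inr c) = i * ht D (Sum.inr r) + j * ht D (Sum.inr s) := by
  simp only [ht_inr, Finset.mul_sum, ← Finset.sum_add_distrib]
  exact Finset.sum_congr rfl fun l _ => by rw [e l]; ring

theorem cartan_injective (hD : Good D) (hinj : chkWtInj D = true) {r s : Root D}
    (e : ∀ l : Fin D.rank, D.cartan l r = D.cartan l s) : r = s := by
  simp only [chkWtInj, List.all_eq_true, List.mem_range, bne_iff_ne] at hinj
  by_contra hne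
  have key : ∀ x : Root D, ((List.range D.nroots).map fun k => (wtTrie D).get k).getD x [] =
      (List.range D.rank).map fun i => D.cartan i x := fun x => by
    rw [List.getD_eq_getElem?_getD, List.getElem?_eq_getElem (by simp)]
    simp [hD.wtTrie_get x.isLt]
  rcases lt_trichotomy (r : ℕ) s with h | h | h
  · refine hinj s s.isLt r h ?_
    rw [key, key]
    exact List.map_congr_left fun i hi => (e ⟨i, List.mem_range.1 hi⟩).symm
  · exact hne (Fin.ext h)
  · refine hinj r r.isLt s h ?_
    rw [key, key]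
    exact List.map_congr_left fun i hi => e ⟨i, List.mem_range.1 hi⟩

end CfsgLib.SubfieldOver
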