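import Cfsg.Agent.SubfieldOver.TwoChar
import Cfsg.Agent.SubfieldOver.OverTables
import Cfsg.Agent.ChevParabolic.FStarParabolic
import Mathlib.Algebra.CharP.Frobenius

/-!
# Finite overgroups of a group over a finite field

A finite subgroup of `G` containing the root elements `x_r(1)` consists, under the table conditions,
of matrices over the finite field of parameters of its top root elements, and contains the root
elements over that field.
-/

set_option autoImplicit false

namespace CfsgLib.SubfieldOver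

open Cfsg.Lie CfsgLib CfsgLib.Chevalley
open CfsgLib.ChevSubfield (gmap fixElem)
open scoped MatrixGroups

variable {D : ChevalleyDatum} {F : Type*} [Field F]
variable {C : Weyl.Cert D.rank} {M : CoxeterMatrix (Fin D.rank)} {R : Weyl.RootTable}
variable {hW : GoodWeyl D} {H : Subgroup (GL D.Idx F)}

/-- Fixed conjugates of `x_θ(1)` make all of `H` fixed. -/
theorem Setting.all_fixed {σ : F →+* F} (S : Setting hW σ H) (h : Weyl.RootGood C M R)
    {top : Root D} (hT : half D ≤ (top : ℕ)) (hchk : chkTop D top = true)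
    (hy : ∀ g ∈ H, gmap D σ (g * X hW.good top 1 * g⁻¹) = g * X hW.good top 1 * g⁻¹)
    {g : GL D.Idx F} (hg : g ∈ H) : gmap D σ g = g := by
  have key : ∀ r : Root D, ∀ g ∈ H,
      gmap D σ (g * X hW.good r 1 * g⁻¹) = g * X hW.good r 1 * g⁻¹ := by
    refine hW.root_induction (P := fun r => ∀ g ∈ H,
      gmap D σ (g * X hW.good r 1 * g⁻¹) = g * X hW.good r 1 * g⁻¹) (fun i g hg => ?_)
      fun i r hr g hg => ?_
    · refine S.centralizer_fixed h (hy g hg) (fun e => ?_) (S.le_group hg) ?_
        (mul_mem (mul_mem hg (S.X_mem _ (map_one σ))) (inv_mem hg))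
        ((commute_top hW hT hchk (pRoot_pos hW i) 1 1).symm.conj g)
      · rw [mul_inv_eq_one, mul_eq_left] at e
        exact X_ne_one hW.good top one_ne_zero e
      · rw [show g⁻¹ * (g * X hW.good top 1 * g⁻¹) * g = X hW.good top 1 by group]
        exact X_mem_pos hW.good hT _
    · have hn : (nR hW i : GL D.Idx F) ∈ H := S.fix_le (ChevSubfield.nR_mem_fixElem σ hW i)
      have h1 := hr (g * nR hW i) (mul_mem hg hn)
      rw [show g * nR hW i * X hW.good r 1 * (g * nR hW i)⁻¹ =
        g * (nR hW i * X hW.good r 1 * (nR hW i)⁻¹) * g⁻¹ by group, nR_conj, mul_one] at h1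
      rcases Int.isUnit_iff.1 (IsUnit.of_mul_eq_one _ (hW.eta_sq i r)) with he | he <;>
        rw [he] at h1 <;> simp only [Int.cast_one, Int.cast_neg] at h1
      · exact h1
      · rw [← X_inv, show g * (X hW.good (wPerm hW i r) (1 : F))⁻¹ * g⁻¹ =
          (g * X hW.good (wPerm hW i r) 1 * g⁻¹)⁻¹ by group, map_inv] at h1
        exact inv_injective h1
  have hz : (g⁻¹ * gmap D σ g) = 1 := ChevSubfield.eq_one_of_comm hW h
    (mul_mem (inv_mem (S.le_group hg)) (ChevSubfield.gmap_mem_group σ hW.good (S.le_group hg)))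
    fun r => (commute_of_conj_fixed (by rw [X_map, map_one]) (key r g hg)).eq
  exact (inv_mul_eq_one.1 hz).symm

/-- The matrices and the root elements of a finite overgroup. -/
theorem exists_field_over (p : ℕ) [Fact p.Prime] [CharP F p] (h : Weyl.RootGood C M R)
    (O : Over hW H) [Finite H] (hlink : ChevParabolic.linkOk D = true)
    (hrank : ∀ i : Fin D.rank, ∃ k, k ≠ i) {L : ℕ → Bool} {top : Root D}
    (hcommon : chkCommon D L top = true) {q : ℕ} {E : List ℕ} (P : CentreData D F q E)
    (hmul : ∀ x y, x ∈ params hW.good H top → y ∈ params hW.good H top →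
      x * y ∈ params hW.good H top)
    (hexc : ∀ σ : F →+* F, (∀ t, X hW.good top t ∈ H → σ t = t) →
      ∀ e ∈ H, e ∈ rootGen hW.good F (excSet D E) → gmap D σ e = e)
    (hb : p = 2 → ∃ b : GL D.Idx F, b ∈ H ∧ b ∈ D.posUnipotent F ∧ b * b = 1 ∧ b ≠ 1 ∧
      ∀ g ∈ D.group F, g * X hW.good top 1 * g⁻¹ ≠ b) :
    ∃ (S : Subfield F) (n : ℕ), 1 ≤ n ∧ Nat.card S = p ^ n ∧ (∀ t, t ∈ S ↔ t ^ p ^ n = t) ∧
      (∀ t, t ∈ S ↔ X hW.good top t ∈ H) ∧ (∀ r t, t ^ p ^ n = t → X hW.good r t ∈ H) ∧
      ∀ g ∈ H, gmap D (iterateFrobenius F p n) g = g := by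
  simp only [chkCommon, Bool.and_eq_true] at hcommon
  obtain ⟨⟨⟨⟨hO, hTor⟩, hchk⟩, hM⟩, hP⟩ := hcommon
  obtain ⟨S, hS, n, hn1, hcard, hfr⟩ := exists_frobenius p (finite_params hW.good H top)
    (O.one_mem' top) (fun {x y} => hmul x y)
  set σ := iterateFrobenius F p n
  have hσ : ∀ t, σ t = t ↔ t ∈ S := fun t => by
    rw [iterateFrobenius_def, hS, hfr]
  have hle : ∀ r, params hW.good H top ≤ params hW.good H r := fun r => O.params_le hO hTor
    (fun x hx => (hS _).1 (inv_mem ((hS x).2 hx))) r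
  have hfix : fixElem hW.good σ ≤ H := by
    rw [fixElem, Subgroup.closure_le]
    rintro _ ⟨r, t, ht, rfl⟩
    exact hle r ((hS t).1 ((hσ t).1 ht))
  have hex := hexc σ fun t ht => (hσ t).2 ((hS t).2 ht)
  have St : Setting hW σ H :=
    { le_group := O.le_group, fix_le := hfix, link := hlink, rank_two := hrank,
      pos_fix := fun u hu huU => pos_fixed_of_exc hW P σ hfix hex hu huU }
  have hy : ∀ g ∈ H, gmap D σ (g * X hW.good top 1 * g⁻¹) = g * X hW.good top 1 * g⁻¹ := by
    intro g hg
    by_cases h2 : (2 : F) = 0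
    · have hp : p = 2 := (Nat.prime_dvd_prime_iff_eq Fact.out Nat.prime_two).1
        ((CharP.cast_eq_zero_iff F p 2).1 (by exact_mod_cast h2))
      subst hp
      obtain ⟨b, hbH, hbU, hb2, hb1, hnc⟩ := hb rfl
      have : Finite S := Nat.finite_of_card_ne_zero (by rw [hcard]; positivity)
      let : Fintype S := Fintype.ofFinite S
      exact conj_top_fixed_two h St S hσ hO hchk hbH hbU hb2 hb1 hnc hg
    · exact conj_top_fixed_odd p h2 h St hO hchk hM hP (O.le_group hg)
        (mul_mem (mul_mem hg (O.one_mem' top)) (inv_mem hg))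
  exact ⟨S, n, hn1, hcard, fun t => (hS t).trans (hfr t), hS,
    fun r t ht => hle r ((hfr t).2 ht), fun g hg => St.all_fixed h (orbit_lt hO).2.1 hchk hy hg⟩

end CfsgLib.SubfieldOver
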