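import Cfsg.Agent.Chevalley.RankOne
import Cfsg.Agent.DicksonPSL2.Transvections
import Cfsg.Agent.DicksonPSL2.FieldSpan
import Mathlib.RingTheory.IntegralClosure.IsIntegral.Basic
import Mathlib.FieldTheory.IntermediateField.Adjoin.Basic
import Mathlib.FieldTheory.IsAlgClosed.AlgebraicClosure

/-!
# `-1` in the group generated by two transvections

In odd characteristic, if `u(1) v(t)` has finite order then `-1` lies in `⟨u(1), v(t)⟩`.
-/

set_option autoImplicit false

namespace CfsgLib.SubfieldOver

open CfsgLib.Chevalley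
open scoped MatrixGroups

variable {K : Type*} [Field K]

/-- An element of finite order `u(1) v(t)` forces `t` to be algebraic. -/
theorem isIntegral_of_pow (p : ℕ) [Fact p.Prime] [CharP K p] [Algebra (ZMod p) K] {t : K} {N : ℕ}
    (hN : 0 < N) (h : (RankOneRel.uMat K 1 * RankOneRel.vMat K t) ^ N = 1) :
    IsIntegral (ZMod p) t := by
  set L := AlgebraicClosure K
  set ι : K →+* L := algebraMap K L
  obtain ⟨l, hl⟩ := IsAlgClosed.exists_root
    (Polynomial.X ^ 2 - Polynomial.C (2 + ι t) * Polynomial.X + 1 : Polynomial L) (by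
      apply ne_of_gt
      rw [show Polynomial.X ^ 2 - Polynomial.C (2 + ι t) * Polynomial.X + 1 =
        Polynomial.C 1 * Polynomial.X ^ 2 + Polynomial.C (-(2 + ι t)) * Polynomial.X +
          Polynomial.C 1 by simp; ring, Polynomial.degree_quadratic one_ne_zero]
      norm_num)
  simp only [Polynomial.IsRoot.def, Polynomial.eval_add, Polynomial.eval_sub, Polynomial.eval_pow,
    Polynomial.eval_X, Polynomial.eval_mul, Polynomial.eval_C, Polynomial.eval_one] at hl
  set v : Fin 2 → L := ![1, l - 1 - ι t]
  have hv : ∀ n : ℕ, (((RankOneRel.uMat K 1 * RankOneRel.vMat K t) ^ n).1.map ι).mulVec v =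
      l ^ n • v := by
    intro n
    induction n with
    | zero => simp [Matrix.map_one]
    | succ n ih =>
      rw [pow_succ, Matrix.SpecialLinearGroup.coe_mul, Matrix.map_mul, ← Matrix.mulVec_mulVec]
      have e1 : ((RankOneRel.uMat K 1 * RankOneRel.vMat K t).1.map ι).mulVec v = l • v := by
        funext i
        fin_cases i <;>
          simp [v, RankOneRel.uMat_val, RankOneRel.vMat_val, Matrix.mulVec, dotProduct,
            Matrix.mul_apply, Fin.sum_univ_two]
        linear_combination -hl
      rw [e1, Matrix.mulVec_smul, ih, smul_smul, pow_succ']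
  have hl1 : l ^ N = 1 := by
    have := congrFun (hv N) 0
    rw [h] at this
    simpa [v, Matrix.map_one] using this.symm
  have hint : IsIntegral (ZMod p) l := by
    refine ⟨Polynomial.X ^ N - Polynomial.C 1, Polynomial.monic_X_pow_sub_C _ hN.ne', ?_⟩
    simp [hl1]
  have hl0 : l ≠ 0 := fun e => by simp [e, hN.ne'] at hl1
  have hint' : IsIntegral (ZMod p) l⁻¹ := by
    rw [show l⁻¹ = l ^ (N - 1) from inv_eq_of_mul_eq_one_right (by
      rw [← pow_succ', Nat.sub_add_cancel hN, hl1])]
    exact hint.pow _
  have e : ι t = l + l⁻¹ - (1 + 1) := by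
    apply mul_left_cancel₀ hl0
    rw [mul_sub, mul_add l, mul_inv_cancel₀ hl0]
    linear_combination -hl
  have := (hint.add hint').sub (isIntegral_one.add isIntegral_one)
  rw [← e] at this
  exact (isIntegral_algebraMap_iff ι.injective).1 this

/-- The exchange of the two coordinates. -/
def swapHom : SL(2, K) →* SL(2, K) where
  toFun g := ⟨!![g.1 1 1, g.1 1 0; g.1 0 1, g.1 0 0], by
    have := g.2
    rw [Matrix.det_fin_two] at this
    rw [Matrix.det_fin_two_of]
    linear_combination this⟩
  map_one' := by
    apply Subtype.ext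
    simp [Matrix.one_fin_two]
  map_mul' g k := by
    apply Subtype.ext
    rw [Matrix.SpecialLinearGroup.coe_mul ⟨_, _⟩ ⟨_, _⟩]
    apply Matrix.ext
    intro i j
    fin_cases i <;> fin_cases j <;> simp [Matrix.SpecialLinearGroup.coe_mul, Matrix.mul_apply, Fin.sum_univ_two] <;> ring

theorem coe_swapHom (g : SL(2, K)) :
    (swapHom g).1 = !![g.1 1 1, g.1 1 0; g.1 0 1, g.1 0 0] := rfl

/-- In odd characteristic `⟨u(1), v(t)⟩` contains `-1` once `u(1) v(t)` has finite order. -/
theorem neg_one_mem_pair (p : ℕ) [Fact p.Prime] [CharP K p] (h2 : (2 : K) ≠ 0) {t : K} (ht : t ≠ 0)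
    {N : ℕ} (hN : 0 < N) (h : (RankOneRel.uMat K 1 * RankOneRel.vMat K t) ^ N = 1) :
    (-1 : SL(2, K)) ∈ Subgroup.closure ({RankOneRel.uMat K 1, RankOneRel.vMat K t} : Set SL(2, K)) := by
  classical
  let : Algebra (ZMod p) K := ZMod.algebra K p
  have hint := isIntegral_of_pow p hN h
  set E := IntermediateField.adjoin (ZMod p) ({t} : Set K)
  have : FiniteDimensional (ZMod p) E := IntermediateField.adjoin.finiteDimensional hint
  have : Finite E := Module.finite_of_finite (ZMod p)
  let : Fintype E := Fintype.ofFinite E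
  have : CharP E p := RingHom.charP E.val.toRingHom Subtype.val_injective p
  set lam : E := ⟨t, IntermediateField.mem_adjoin_simple_self _ t⟩
  have hlam : lam ≠ 0 := fun e => ht (congrArg Subtype.val e)
  have h2' : (2 : E) ≠ 0 := fun e => h2 (by
    have := congrArg E.val e
    rwa [map_ofNat, map_zero] at this)
  have hgen : Subfield.closure ({lam} : Set E) = ⊤ := by
    rw [eq_top_iff]
    intro x _
    have hmap : (Subfield.closure ({lam} : Set E)).map E.val.toRingHom =
        Subfield.closure ({t} : Set K) := by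
      rw [RingHom.map_field_closure, Set.image_singleton]
      rfl
    have hx : (x : K) ∈ Subfield.closure ({t} : Set K) := by
      have hle : E ≤ Subfield.toIntermediateField (Subfield.closure ({t} : Set K)) (fun a => by
          obtain ⟨n, rfl⟩ := ZMod.intCast_surjective a
          rw [map_intCast]
          exact intCast_mem _ n) := by
        rw [IntermediateField.adjoin_le_iff, Set.singleton_subset_iff]
        exact Subfield.subset_closure rfl
      exact hle x.2
    rw [← hmap] at hx
    obtain ⟨y, hy, hyx⟩ := hx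
    rwa [show x = y from (Subtype.ext hyx).symm]
  set G := Subgroup.closure ({DicksonPSL2.loOne, DicksonPSL2.upSL lam} : Set SL(2, E)) with hG
  have heven : 2 ∣ Nat.card G := by
    rcases DicksonPSL2.transvections_generate p h2' hlam hgen with ⟨e, -⟩ | ⟨-, -, e⟩
    · rw [← hG] at e
      have hm : (-1 : SL(2, E)) ∈ G := e ▸ Subgroup.mem_top _
      have ho : orderOf (⟨-1, hm⟩ : G) = 2 := by
        rw [Subgroup.orderOf_mk]
        refine orderOf_eq_prime (by rw [neg_one_pow_two]) fun e => h2' ?_
        have := congrFun (congrFun (congrArg Subtype.val e) 0) 0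
        simp at this
        linear_combination -this
      have hd := orderOf_dvd_natCard (G := G) ⟨-1, hm⟩
      rwa [ho] at hd
    · rw [← hG] at e
      rw [e]; norm_num
  obtain ⟨⟨x, hx⟩, hxo⟩ := exists_prime_orderOf_dvd_card' (G := G) 2 heven
  rw [Subgroup.orderOf_mk] at hxo
  have hx2 := (orderOf_eq_prime_iff.1 hxo).1
  have hneg : (-1 : SL(2, E)) ∈ G := by
    rcases DicksonPSL2.proj_eq_proj_iff.1
      (show SL2Trace.proj (1 : SL(2, E)) = SL2Trace.proj x from
        (DicksonPSL2.proj_eq_one_of_sq h2' (by rw [← pow_two, hx2])).symm) with e | e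
    · exact absurd e (orderOf_eq_prime_iff.1 hxo).2
    · exact e ▸ hx
  set f : SL(2, E) →* SL(2, K) :=
    (swapHom).comp (Matrix.SpecialLinearGroup.map E.val.toRingHom)
  have hf : G.map f = Subgroup.closure ({RankOneRel.uMat K 1, RankOneRel.vMat K t} : Set SL(2, K)) := by
    rw [hG, MonoidHom.map_closure, Set.image_pair]
    rw [show f DicksonPSL2.loOne = RankOneRel.uMat K 1 from Subtype.ext (by
        simp [f, coe_swapHom, DicksonPSL2.coe_loOne, RankOneRel.uMat_val]),
      show f (DicksonPSL2.upSL lam) = RankOneRel.vMat K t from Subtype.ext (by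
        simp [f, coe_swapHom, DicksonPSL2.coe_upSL, RankOneRel.vMat_val, lam])]
  rw [← hf]
  refine ⟨-1, hneg, ?_⟩
  apply Subtype.ext
  simp [f, coe_swapHom]
  ext i j
  fin_cases i <;> fin_cases j <;> simp [Matrix.one_apply]

end CfsgLib.SubfieldOver
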