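import Cfsg.Agent.SubfieldOver.Fields
import Cfsg.Agent.Chevalley.RankOne

/-!
# The kernel of the homomorphism from `SL₂` at a positive root
-/

set_option autoImplicit false

namespace CfsgLib.SubfieldOver

open Cfsg.Lie CfsgLib CfsgLib.Chevalley
open scoped MatrixGroups

variable {D : ChevalleyDatum} {F : Type*} [Field F]

/-- An element of the kernel squares to `1`. -/
theorem mul_self_of_map_eq_one (hW : GoodWeyl D) {r : Root D} (hr : half D ≤ (r : ℕ))
    {φ : SL(2, F) →* GL D.Idx F} (h1 : ∀ t, φ (RankOneRel.uMat F t) = X hW.good r t)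
    (h2 : ∀ t, φ (RankOneRel.vMat F t) = X hW.good r.rev t) {g : SL(2, F)} (hg : φ g = 1) :
    g * g = 1 := by
  have hd : g.1 0 0 * g.1 1 1 - g.1 0 1 * g.1 1 0 = 1 := by
    have := g.2
    rwa [Matrix.det_fin_two] at this
  have hconj : φ (g * RankOneRel.uMat F 1 * g⁻¹) = X hW.good r 1 := by
    rw [map_mul, map_mul, map_inv, hg, h1, one_mul, inv_one, mul_one]
  have hrn : (r.rev : ℕ) < half D := by
    have := hW.good.two_half
    rw [Fin.val_rev]
    omega
  have hc : g.1 1 0 = 0 := by
    by_contra hne
    have e : g * RankOneRel.uMat F 1 * g⁻¹ = RankOneRel.uMat F (g.1 0 0 / g.1 1 0) *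
        RankOneRel.vMat F (-(g.1 1 0) ^ 2) * RankOneRel.uMat F (-(g.1 0 0 / g.1 1 0)) := by
      rw [mul_inv_eq_iff_eq_mul]
      apply Subtype.ext
      apply Matrix.ext
      intro i j
      fin_cases i <;> fin_cases j <;>
        simp [RankOneRel.uMat_val, RankOneRel.vMat_val, Matrix.mul_apply, Fin.sum_univ_two] <;>
        field_simp <;> first
          | ring1
          | linear_combination hd
          | linear_combination -hd
          | linear_combination (g.1 1 0) * hd
          | linear_combination -(g.1 1 0) * hd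
          | linear_combination (g.1 0 0) * hd
          | linear_combination -(g.1 0 0) * hd
          | linear_combination (g.1 0 0 * g.1 1 0) * hd
          | linear_combination -(g.1 0 0 * g.1 1 0) * hd
    rw [e, map_mul, map_mul, h1, h2, h1, ← X_inv hW.good r, mul_inv_eq_iff_eq_mul, X_mul,
      ← eq_inv_mul_iff_mul_eq, X_inv, X_mul] at hconj
    have hmem : X hW.good r.rev (-(g.1 1 0) ^ 2) ∈ D.borelSubgroup F ⊓ D.negUnipotent F :=
      ⟨by rw [hconj]; exact pos_le_borel D (X_mem_pos hW.good hr _), X_mem_neg hW.good hrn _⟩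
    rw [borel_inf_neg hW, Subgroup.mem_bot, ← X_zero hW.good r.rev] at hmem
    have := X_injective hW.good _ hmem
    simp [hne] at this
  have e : g * RankOneRel.uMat F 1 * g⁻¹ = RankOneRel.uMat F (g.1 0 0 ^ 2) := by
    rw [mul_inv_eq_iff_eq_mul]
    apply Subtype.ext
    apply Matrix.ext
    intro i j
    rw [hc, mul_zero, sub_zero] at hd
    fin_cases i <;> fin_cases j <;>
      simp [RankOneRel.uMat_val, Matrix.mul_apply, Fin.sum_univ_two, hc] <;>
      first
        | ring1
        | linear_combination -(g.1 0 0) * hd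
  rw [e, h1] at hconj
  have ha := X_injective hW.good r hconj
  rw [hc, mul_zero, sub_zero] at hd
  have had : g.1 1 1 = g.1 0 0 := by
    linear_combination (g.1 0 0) * hd - (g.1 1 1) * ha
  have e2 : g * g = RankOneRel.uMat F (2 * g.1 0 0 * g.1 0 1) := by
    apply Subtype.ext
    apply Matrix.ext
    intro i j
    fin_cases i <;> fin_cases j <;>
      simp [RankOneRel.uMat_val, Matrix.mul_apply, Fin.sum_univ_two, hc, had] <;>
      first
        | ring1
        | linear_combination ha
  have h3 : φ (g * g) = 1 := by rw [map_mul, hg, one_mul]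
  rw [e2, h1, ← X_zero hW.good r] at h3
  rw [e2, X_injective hW.good r h3]
  apply Subtype.ext
  simp [RankOneRel.uMat_val, Matrix.one_fin_two]

end CfsgLib.SubfieldOver
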