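import Cfsg.Agent.SubfieldOver.Exceptional
import Cfsg.Agent.SubfieldOver.RankOneKer
import Cfsg.Agent.SubfieldOver.NegOne
import Cfsg.Agent.Chevalley.BruhatUnique

/-!
# The conjugates of the top root element are fixed in odd characteristic

A conjugate `y` in `H` of `x_θ(1)` either commutes with a fixed unipotent element, or generates
with `x_θ(1)` a conjugate of a rank one group, whose central involution is fixed.
-/

set_option autoImplicit false

namespace CfsgLib.SubfieldOver

open Cfsg.Lie CfsgLib CfsgLib.Chevalley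
open CfsgLib.ChevSubfield (gmap fixElem)
open scoped MatrixGroups

variable {D : ChevalleyDatum} {F : Type*} [Field F]
variable {C : Weyl.Cert D.rank} {M : CoxeterMatrix (Fin D.rank)} {R : Weyl.RootTable}
variable {hW : GoodWeyl D} {σ : F →+* F} {H : Subgroup (GL D.Idx F)}

theorem X_ne_one (hD : Good D) (r : Root D) {t : F} (ht : t ≠ 0) : X hD r t ≠ 1 := fun e =>
  ht (X_injective hD r (e.trans (X_zero hD r).symm))

/-- A conjugate of `x_θ(1)` is `u x_β(t) u⁻¹` with `β` in the orbit of `θ`. -/
theorem exists_conj_top (h : Weyl.RootGood C M R) {L : ℕ → Bool} {top : Root D}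
    (hO : chkOrbit D L top = true) (hchk : chkTop D top = true) {g : GL D.Idx F}
    (hg : g ∈ D.group F) :
    ∃ u ∈ D.posUnipotent F, ∃ β : Root D, L β = true ∧ ∃ t : F, t ≠ 0 ∧
      g * X hW.good top 1 * g⁻¹ = u * X hW.good β t * u⁻¹ := by
  obtain ⟨w, b, hb, b', hb', rfl⟩ := exists_mem_cell hW h hg
  obtain ⟨v, hv, k, hk, rfl⟩ := (mem_borel_iff hW).1 hb
  obtain ⟨v', hv', k', hk', rfl⟩ := (mem_borel_iff hW).1 hb'
  obtain ⟨c, hc⟩ := diag_conj_X hW hk' top
  obtain ⟨d, hd⟩ := (monBy_nW (F := F) hW h w).conj_X top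
  obtain ⟨e, he⟩ := diag_conj_X hW hk (h.rootPerm w top)
  refine ⟨v, hv, h.rootPerm w top,
    (orbit_monBy hO (nW_mem (F := F) hW h w) (monBy_nW hW h w) top).1 (orbit_lt hO).2.2,
    (e : F) * ((d : F) * ((c : F) * 1)), by simp, ?_⟩
  rw [show ∀ x n y p q : GL D.Idx F, x * n * (p * q) * y * (x * n * (p * q))⁻¹ =
    x * (n * (p * (q * y * q⁻¹) * p⁻¹) * n⁻¹) * x⁻¹ from fun x n y p q => by group, hc,
    ← (commute_top_pos hW (orbit_lt hO).2.1 hchk hv' ((c : F) * 1)).eq, mul_inv_cancel_right, hd,
    show ∀ x p y : GL D.Idx F, x * p * y * (x * p)⁻¹ = x * (p * y * p⁻¹) * x⁻¹ from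
      fun x p y => by group, he]

/-- The roots of even pairing with `top`. -/
def evenSet (D : ChevalleyDatum) (top : Root D) : Set (Root D) :=
  {r | half D ≤ (r : ℕ) ∧ D.pairing top r % 2 = 0}

/-- A fixed conjugate of `h_θ(-1)` by `u` determines `u` up to roots of even pairing. -/
theorem exists_even_part (hW : GoodWeyl D) (top : Root D) (σ : F →+* F) (h2 : (2 : F) ≠ 0)
    {z : GL D.Idx F} (hzd : z ∈ D.diagonalSubgroup F) (hzσ : gmap D σ z = z)
    (hz : ∀ r t, z * X hW.good r t * z⁻¹ = X hW.good r ((((-1 : Fˣ) ^ D.pairing top r : Fˣ) : F) * t)) :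
    ∀ n m, half D ≤ m → m + n = D.nroots → ∀ u ∈ uGe hW.good F false m,
      gmap D σ (u * z * u⁻¹) = u * z * u⁻¹ →
      ∃ l ∈ fixElem hW.good σ, ∃ u₁ ∈ rootGen hW.good F (evenSet D top), u = l * u₁ := by
  intro n
  induction n with
  | zero =>
    intro m hm hmn u hu _
    rw [uGe_eq_bot _ (by omega), Subgroup.mem_bot] at hu
    exact ⟨1, one_mem _, 1, one_mem _, by rw [hu, one_mul]⟩
  | succ n ih =>
    intro m hm hmn u hu hf
    obtain ⟨t, rfl⟩ := exists_prodFrom hW.toGoodComm (n + 1) m hm hmn u hu
    rw [prodFrom_succ] at hf ⊢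
    set r := rootOf hW.good false m
    set v := prodFrom hW.good false t (m + 1) n
    have hrk : (r : ℕ) = m := key_rootOf hW.good (b := false) (by omega)
    have hrp : half D ≤ (r : ℕ) := by omega
    have hv : v ∈ uGe hW.good F false (m + 1) := prodFrom_mem hW.good t (by omega) (by omega)
    have hnorm : ∀ (x : F) {w : GL D.Idx F}, w ∈ uGe hW.good F false (m + 1) →
        X hW.good r x * w * (X hW.good r x)⁻¹ ∈ uGe hW.good F false (m + 1) := fun x w hw =>
      (Subgroup.mem_normalizer_iff.1 (uGe_half_le_normalizer hW.toGoodComm _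
        (uGe_mono hW.good hm (X_mem_uGe hW.good (b := false) hrp (le_of_eq hrk.symm) x))) _).1 hw
    rcases Int.emod_two_eq_zero_or_one (D.pairing top r) with hev | hodd
    · have hpw : ((-1 : Fˣ) ^ D.pairing top r : Fˣ) = 1 := by
        obtain ⟨k, hk⟩ := Int.dvd_of_emod_eq_zero hev
        rw [hk, zpow_mul, show (-1 : Fˣ) ^ (2 : ℤ) = 1 by rw [zpow_two]; simp, one_zpow]
      have hcz : z * X hW.good r (t m) = X hW.good r (t m) * z := by
        have := hz r (t m)
        rwa [hpw, Units.val_one, one_mul, mul_inv_eq_iff_eq_mul] at this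
      have hv' := hnorm (t m) hv
      set v' := X hW.good r (t m) * v * (X hW.good r (t m))⁻¹ with hv'd
      have e : X hW.good r (t m) * v * z * (X hW.good r (t m) * v)⁻¹ = v' * z * v'⁻¹ := by
        rw [hv'd]
        calc X hW.good r (t m) * v * z * (X hW.good r (t m) * v)⁻¹
            = X hW.good r (t m) * v * (X hW.good r (t m))⁻¹ *
              (X hW.good r (t m) * z * (X hW.good r (t m))⁻¹) *
              (X hW.good r (t m) * v * (X hW.good r (t m))⁻¹)⁻¹ := by group
          _ = _ := by rw [← hcz, mul_inv_cancel_right]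
      obtain ⟨l, hl, u₁, hu₁, hle⟩ := ih (m + 1) (by omega) (by omega) v' hv' (by rw [← e]; exact hf)
      refine ⟨l, hl, u₁ * X hW.good r (t m), mul_mem hu₁ (X_mem_rootGen _ (show r ∈ evenSet D top from ⟨hrp, hev⟩) _), ?_⟩
      rw [← mul_assoc, ← hle, hv'd, inv_mul_cancel_right]
    · have hpw : ((-1 : Fˣ) ^ D.pairing top r : Fˣ) = -1 := by
        rw [← Int.emod_add_ediv_mul (D.pairing top r) 2, hodd, zpow_add, mul_comm _ (2 : ℤ), zpow_mul,
          show (-1 : Fˣ) ^ (2 : ℤ) = 1 by rw [zpow_two]; simp, one_zpow, mul_one, zpow_one]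
      have hcz : ∀ x : F, z * X hW.good r x = X hW.good r (-x) * z := fun x => by
        have := hz r x
        rwa [hpw, Units.val_neg, Units.val_one, neg_one_mul, mul_inv_eq_iff_eq_mul] at this
      have hzv : z * v⁻¹ * z⁻¹ ∈ uGe hW.good F false (m + 1) := by
        have hvS : v⁻¹ ∈ rootGen hW.good F {r : Root D | half D ≤ (r : ℕ) ∧ m + 1 ≤ (r : ℕ)} := by
          refine (show uGe hW.good F false (m + 1) ≤ _ from (Subgroup.closure_le _).2 ?_) (inv_mem hv)
          rintro _ ⟨s, h1, h2, x, rfl⟩
          exact X_mem_rootGen _ (show s ∈ {r : Root D | half D ≤ (r : ℕ) ∧ m + 1 ≤ (r : ℕ)} from ⟨h1, h2⟩) x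
        refine (rootGen_le hW.good fun s hs x => ?_) (diag_conj_rootGen hW hzd hvS)
        exact X_mem_uGe hW.good (b := false) hs.1 hs.2 x
      set w := v * (z * v⁻¹ * z⁻¹)
      have hw : w ∈ uGe hW.good F false (m + 1) := mul_mem hv hzv
      have e : X hW.good r (t m) * v * z * (X hW.good r (t m) * v)⁻¹ =
          X hW.good r (t m) * w * X hW.good r (t m) * z := by
        calc X hW.good r (t m) * v * z * (X hW.good r (t m) * v)⁻¹
            = X hW.good r (t m) * w * (z * (X hW.good r (t m))⁻¹) := by simp only [w]; group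
          _ = _ := by rw [X_inv, hcz, neg_neg]; group
      set w' := (X hW.good r (t m))⁻¹ * w * (X hW.good r (t m))⁻¹⁻¹
      have hw' : w' ∈ uGe hW.good F false (m + 1) := by
        have := hnorm (-t m) hw
        rwa [← X_inv] at this
      have e' : X hW.good r (t m) * w * X hW.good r (t m) = X hW.good r (t m + t m) * w' := by
        rw [← X_mul]; simp only [w']; group
      have hσw' : gmap D σ w' ∈ uGe hW.good F false (key false r + 1) := by
        refine (show uGe hW.good F false (m + 1) ≤
          (uGe hW.good F false (key false r + 1)).comap (gmap D σ) from (Subgroup.closure_le _).2 ?_) hw'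
        rintro _ ⟨s, h1, h2, x, rfl⟩
        rw [SetLike.mem_coe, Subgroup.mem_comap, X_map]
        exact X_mem_uGe hW.good (b := false) h1 (by show (r : ℕ) + 1 ≤ (s : ℕ); change m + 1 ≤ (s : ℕ) at h2; omega) _
      rw [e, e'] at hf
      rw [map_mul, map_mul, hzσ, X_map] at hf
      have hf' := mul_right_cancel hf
      obtain ⟨j, hj⟩ := hW.toGoodUni.exists_coroot_ne F r
      have hent := congrArg (fun A : GL D.Idx F =>
        (A : Matrix D.Idx D.Idx F) (Sum.inl j) (Sum.inr r.rev)) hf'
      rw [entry_X_mul hW.good (b := false) hrp _ hσw' j,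
        entry_X_mul hW.good (b := false) hrp _ (show w' ∈ uGe hW.good F false (key false r + 1) by
          show w' ∈ uGe hW.good F false ((r : ℕ) + 1); rw [hrk]; exact hw') j] at hent
      have hσt : σ (t m) = t m := by
        have h4 := mul_right_cancel₀ hj hent
        rw [map_add] at h4
        apply mul_left_cancel₀ h2
        linear_combination h4
      obtain ⟨l, hl, u₁, hu₁, hle⟩ := ih (m + 1) (by omega) (by omega) v hv (by
        have hX : gmap D σ (X hW.good r (t m)) = X hW.good r (t m) := by rw [X_map, hσt]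
        have e2 : v * z * v⁻¹ = (X hW.good r (t m))⁻¹ *
            (X hW.good r (t m) * w * X hW.good r (t m) * z) * X hW.good r (t m) := by rw [← e]; group
        rw [e2, map_mul, map_mul _ ((X hW.good r (t m))⁻¹), map_inv, hX, e', map_mul, map_mul,
          X_map, hzσ, hf'])
      exact ⟨_, mul_mem (ChevSubfield.X_mem_fixElem σ _ r hσt) hl, u₁, hu₁, by rw [hle, mul_assoc]⟩

/-- In odd characteristic a conjugate in `H` of `x_θ(1)` is fixed. -/
theorem conj_top_fixed_odd (p : ℕ) [Fact p.Prime] [CharP F p] (h2 : (2 : F) ≠ 0) [Finite H]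
    (h : Weyl.RootGood C M R) (S : Setting hW σ H) {L : ℕ → Bool} {top : Root D}
    (hO : chkOrbit D L top = true) (hchk : chkTop D top = true) (hM : chkMain D L top = true)
    (hP : chkPerp D top = true) {g : GL D.Idx F} (hgG : g ∈ D.group F)
    (hy : g * X hW.good top 1 * g⁻¹ ∈ H) :
    gmap D σ (g * X hW.good top 1 * g⁻¹) = g * X hW.good top 1 * g⁻¹ := by
  obtain ⟨u, hu, β, hβ, t, ht, e⟩ := exists_conj_top (hW := hW) h hO hchk hgG
  rw [e] at hy ⊢
  have hTp := (orbit_lt hO).2.1
  set a := X hW.good top (1 : F)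
  set y := u * X hW.good β t * u⁻¹
  have haH : a ∈ H := S.X_mem top (map_one σ)
  have haU : a ∈ D.posUnipotent F := X_mem_pos hW.good hTp _
  have haσ : gmap D σ a = a := by rw [X_map, map_one]
  have ha1 : a ≠ 1 := X_ne_one hW.good top one_ne_zero
  have hua : u * a = a * u := (commute_top_pos hW hTp hchk hu 1).eq.symm
  rcases eq_or_ne β top with rfl | hne
  · refine S.pos_fix _ hy ?_
    exact mul_mem (mul_mem hu (X_mem_pos hW.good hTp _)) (inv_mem hu)
  rcases eq_or_ne β top.rev with hrev | hne'
  · -- the rank one case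
    subst hrev
    obtain ⟨φ, h1, hv⟩ := exists_sl2Hom (F := F) hW top
    set Φ := (MulAut.conj u).toMonoidHom.comp φ
    have hΦu : Φ (RankOneRel.uMat F 1) = a := by
      show u * φ _ * u⁻¹ = a
      rw [h1, hua, mul_inv_cancel_right]
    have hΦv : Φ (RankOneRel.vMat F t) = y := by
      show u * φ _ * u⁻¹ = y
      rw [hv]
    obtain ⟨N, hN, hpow⟩ := (isOfFinOrder_of_finite (⟨a * y, mul_mem haH hy⟩ : H)).exists_pow_eq_one
    have hm : φ ((RankOneRel.uMat F 1 * RankOneRel.vMat F t) ^ N) = 1 := by
      have : Φ ((RankOneRel.uMat F 1 * RankOneRel.vMat F t) ^ N) = 1 := by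
        rw [map_pow, map_mul, hΦu, hΦv]
        exact congrArg Subtype.val hpow
      exact (MulAut.conj u).injective (this.trans (map_one _).symm)
    have hm2 := mul_self_of_map_eq_one hW hTp h1 hv hm
    rw [← pow_add] at hm2
    have hneg := neg_one_mem_pair p h2 ht (by omega : 0 < N + N) hm2
    have hle : Subgroup.closure ({RankOneRel.uMat F 1, RankOneRel.vMat F t} : Set SL(2, F)) ≤
        H.comap Φ := by
      rw [Subgroup.closure_le]
      rintro _ (rfl | rfl)
      · show Φ _ ∈ H
        rw [hΦu]; exact haH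
      · show Φ _ ∈ H
        rw [hΦv]; exact hy
    set z := φ (-1)
    have hzH : u * z * u⁻¹ ∈ H := hle hneg
    have hzc : Commute (u * z * u⁻¹) a := by
      rw [← hΦu]
      exact Commute.map (show Commute (-1 : SL(2, F)) (RankOneRel.uMat F 1) from
        (Commute.one_left _).neg_left) Φ
    have hzfix := S.centralizer_pos_fixed h haσ ha1 haU hzH hzc
    have hw : (-1 : SL(2, F)) =
        (RankOneRel.uMat F 1 * RankOneRel.vMat F (-1) * RankOneRel.uMat F 1) *
        (RankOneRel.uMat F 1 * RankOneRel.vMat F (-1) * RankOneRel.uMat F 1) := by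
      apply Subtype.ext
      apply Matrix.ext
      intro i j
      fin_cases i <;> fin_cases j <;>
        simp [RankOneRel.uMat_val, RankOneRel.vMat_val, Matrix.mul_apply, Fin.sum_univ_two,
          Matrix.one_apply]
    have hzn : z = nElt hW.good top 1 * nElt hW.good top 1 := by
      simp only [z]
      rw [hw, map_mul, map_mul, map_mul, h1, hv]
      simp [nElt]
    have hzT : z = hT F top (-1) := by
      rw [hzn, show nElt hW.good top (1 : Fˣ) = (nElt hW.good top (-1))⁻¹ by
        rw [nElt_neg, inv_inv], ← mul_inv_rev, hElt_eq hW, hT_inv, inv_neg, inv_one]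
    obtain ⟨l, hl, u₁, hu₁, hlu⟩ := exists_even_part hW top σ h2
      (hzT ▸ hT_mem_diagonal hW top (-1)) (by rw [hzn]; simp [nElt, X_map])
      (fun r x => hzT ▸ hT_conj_X' hW top r (-1) x) (half D) (half D) le_rfl
      (by have := hW.good.two_half; omega) u (by rwa [← posUnipotent_eq hW.good]) hzfix
    simp only [chkPerp, List.any_eq_true, List.mem_range, Bool.and_eq_true, bne_iff_ne,
      List.all_eq_true, Bool.or_eq_true, beq_iff_eq, List.isEmpty_iff] at hP
    obtain ⟨k, hk, ⟨hk1, hk2⟩, hk3⟩ := hP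
    have hh := hW.good.two_half
    set s : Root D := ⟨half D + k, by omega⟩
    have hcomm : ∀ r : Root D, r ≠ s → r ≠ s.rev → D.commTerms s r = [] → ∀ x v : F,
        Commute (X hW.good s x) (X hW.good r v) := by
      intro r hrs hrs' hnil x v
      show _ * _ = _ * _
      symm
      rw [X_comm hW.toGoodComm s r hrs hrs' x v]
      simp [commRhs, wordGL, hnil]
    have hc1 : Commute (X hW.good s (1 : F)) u₁ := by
      clear hlu
      induction hu₁ using Subgroup.closure_induction with
      | mem x hx =>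
        obtain ⟨r, ⟨hrp, hrev⟩, v, rfl⟩ := hx
        rcases eq_or_ne r s with rfl | hrs
        · show _ * _ = _ * _
          rw [X_mul, X_mul, add_comm]
        refine hcomm r hrs (hW.good.rev_ne_of_key (b := false) (Nat.le_add_right _ _) hrp) ?_ _ _
        have := hk3 ((r : ℕ) - half D) (by have := r.isLt; omega)
        rw [Nat.add_sub_cancel' hrp] at this
        rcases this with (h4 | h4) | h4
        · exact absurd (Fin.ext (show (r : ℕ) = half D + k by omega)) hrs
        · exact absurd hrev h4
        · exact h4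
      | one => exact Commute.one_right _
      | mul x v _ _ hx hv => exact hx.mul_right hv
      | inv x _ hx => exact hx.inv_right
    have hsrev : top.rev ≠ s := fun e => by
      have := congrArg Fin.val e
      rw [Fin.val_rev] at this
      simp only [s] at this
      omega
    have hc2 : Commute (X hW.good s (1 : F)) (X hW.good top.rev t) :=
      hcomm _ hsrev (fun e => hk1 (by
        have := congrArg Fin.val (Fin.rev_injective e)
        exact this.symm))
        (by rw [val_rev_eq]; exact hk2) _ _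
    have hlf := ChevSubfield.gmap_fixElem σ hW.good hl
    refine S.centralizer_fixed h (x := l * X hW.good s 1 * l⁻¹) (g₁ := l)
      (by rw [map_mul, map_mul, map_inv, hlf, X_map, map_one])
      (fun e => X_ne_one hW.good s (one_ne_zero (α := F)) ?_)
      (S.le_group (S.fix_le hl))
      (by
        rw [show l⁻¹ * (l * X hW.good s 1 * l⁻¹) * l = X hW.good s 1 by group]
        exact X_mem_pos hW.good (Nat.le_add_right _ _) _) hy ?_
    · rwa [mul_inv_eq_one, mul_eq_left] at e
    have hyc : y = l * (u₁ * X hW.good top.rev t * u₁⁻¹) * l⁻¹ := by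
      simp only [y]; rw [hlu]; group
    rw [hyc]
    exact (((hc1.mul_right hc2).mul_right hc1.inv_right).symm).conj l
  -- commuting with a fixed unipotent element
  simp only [chkMain, List.all_eq_true, List.mem_range, Bool.or_eq_true, Bool.not_eq_true',
    beq_iff_eq] at hM
  have hne2 : β ≠ top := hne
  have hM' := hM β β.isLt
  have hb1 : ¬ (β : ℕ) = (top : ℕ) := fun e => hne (Fin.ext e)
  have hb2 : ¬ (β : ℕ) = opp D top := fun e => hne' (Fin.ext (e.trans (val_rev_eq top).symm))
  simp only [hβ, Bool.true_eq_false, hb1, hb2, false_or] at hM'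
  split at hM'
  · next hnil =>
    refine S.centralizer_pos_fixed h haσ ha1 haU hy ?_
    have hc : Commute (X hW.good β t) a := by
      show _ * _ = _ * _
      rw [X_comm hW.toGoodComm top β hne hne' (1 : F) t]
      simp [commRhs, wordGL, hnil, a]
    have e1 := hc.conj u
    rwa [hua, mul_inv_cancel_right] at e1
  · next c hL =>
    simp only [Bool.and_eq_true, decide_eq_true_eq, beq_iff_eq, bne_iff_ne, List.isEmpty_iff] at hM'
    obtain ⟨⟨⟨⟨⟨⟨⟨hcp, hclt⟩, hN⟩, hi⟩, hj⟩, hnil⟩, hcb⟩, hcb'⟩ := hM'
    have e1 := X_comm hW.toGoodComm top β hne hne' (1 : F) t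
    rw [commRhs_head hW.good hL hclt (by simp), hi, hj, pow_one, pow_one] at e1
    set ε : Root D := ⟨c.1, hclt⟩
    set x : F := (c.2.1 : F) * -1 * t
    have hx : x ≠ 0 := by
      refine mul_ne_zero (mul_ne_zero ?_ (by simp)) ht
      rcases Int.natAbs_eq c.2.1 with e | e <;> rw [e, hN] <;> simp
    set w := u * X hW.good ε x * u⁻¹
    have hwH : w ∈ H := by
      have e2 : w = (a * y)⁻¹ * (y * a) := by
        simp only [w, y]
        calc u * X hW.good ε x * u⁻¹
            = u * ((a * X hW.good β t)⁻¹ * (X hW.good β t * a)) * u⁻¹ := by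
              rw [e1, inv_mul_cancel_left]
          _ = (u * a * u⁻¹ * (u * X hW.good β t * u⁻¹))⁻¹ *
                (u * X hW.good β t * u⁻¹ * (u * a * u⁻¹)) := by group
          _ = _ := by rw [hua, mul_inv_cancel_right]
      rw [e2]
      exact mul_mem (inv_mem (mul_mem haH hy)) (mul_mem hy haH)
    have hwU : w ∈ D.posUnipotent F :=
      mul_mem (mul_mem hu (X_mem_pos hW.good hcp _)) (inv_mem hu)
    refine S.centralizer_pos_fixed h (S.pos_fix _ hwH hwU)
      (fun e => X_ne_one hW.good ε hx ?_) hwU hy ?_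
    · rwa [mul_inv_eq_one, mul_eq_left] at e
    have hc : Commute (X hW.good ε x) (X hW.good β t) := by
      show _ * _ = _ * _
      rw [X_comm hW.toGoodComm β ε (fun e => hcb (congrArg Fin.val e))
        (fun e => hcb' ((congrArg Fin.val e).trans (val_rev_eq β))) t x]
      simp [commRhs, wordGL, hnil, ε]
    exact (hc.conj u).symm
  · simp at hM'

end CfsgLib.SubfieldOver
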