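import Cfsg.Agent.ChevBorelTits.Main
import Cfsg.Agent.ChevUnip.Parabolic
import Cfsg.Agent.ChevSubfield.Fixed

/-!
# The optimal parabolic subgroup of a unipotent element over an arbitrary field

The degree of a subgroup seen from `g` depends on the finitely many sets of non-zero positions,
so a best grading exists over every field.  By uniqueness its parabolic coset is fixed by the
centralizer and by every field endomorphism fixing the element.
-/

set_option autoImplicit false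

namespace CfsgLib.SubfieldOver

open Cfsg.Lie CfsgLib CfsgLib.Chevalley CfsgLib.ChevBorelTits
open CfsgLib.ChevSubfield (gmap)
open scoped MatrixGroups

variable {D : ChevalleyDatum} {F : Type*} [Field F]
variable {C : Weyl.Cert D.rank} {M : CoxeterMatrix (Fin D.rank)} {R : Weyl.RootTable}

/-- A finite set of elements of positive degree at some `g` has a best parabolic subgroup: it
contains every `g'` from which the same degree is reached. -/
theorem exists_optimal_group (hW : GoodWeyl D) (h : Weyl.RootGood C M R)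
    {U : Subgroup (GL D.Idx F)} (hne : U ≠ ⊥) {g₁ : GL D.Idx F} (hg₁ : g₁ ∈ D.group F)
    {x₁ : Fin D.rank → ℝ} (hn₁ : nsq (yv D x₁) = 1) (hd₁ : 0 < deg U hne g₁ (yv D x₁)) :
    ∃ g₀ ∈ D.group F, ∃ J : Finset (Fin D.rank), (∃ i, i ∉ J) ∧
      ∃ (y₀ : D.Idx → ℝ) (m : ℝ), DegU U g₀ y₀ m ∧
        ∀ g' ∈ D.group F, DegU U g' y₀ m → g₀⁻¹ * g' ∈ ChevUnip.PJ hW F J := by
  classical
  haveI : Nonempty ↥(D.group F) := ⟨1⟩
  set K : Set (D.Idx → ℝ) := {y | (∃ x, yv D x = y) ∧ nsq y = 1} with hK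
  have hKc : IsCompact K := isCompact_gradings D
  have hKne : K.Nonempty := ⟨_, ⟨x₁, rfl⟩, hn₁⟩
  set val : {A : Finset (D.Idx × D.Idx) // A.Nonempty} → (D.Idx → ℝ) → ℝ :=
    fun A y => A.1.inf' A.2 fun ab => y ab.1 - y ab.2 with hval
  set ent : ↥(D.group F) → {A : Finset (D.Idx × D.Idx) // A.Nonempty} :=
    fun g => ⟨entries U (g : GL D.Idx F), entries_nonempty hne _⟩ with hent
  have hdeg : ∀ (g : ↥(D.group F)) (y : D.Idx → ℝ), deg U hne (g : GL D.Idx F) y = val (ent g) y :=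
    fun g y => rfl
  haveI : Nonempty (Set.range ent) := ⟨⟨_, ⟨⟨g₁, hg₁⟩, rfl⟩⟩⟩
  have hmaxA : ∀ A : Set.range ent, ∃ y ∈ K, IsMaxOn (val A.1) K y :=
    fun A => hKc.exists_isMaxOn hKne ((Continuous.finset_inf'_apply _ fun ab _ =>
      (continuous_apply ab.1).sub (continuous_apply ab.2)).continuousOn)
  choose Y hYK hYmax using hmaxA
  obtain ⟨⟨_, gm, rfl⟩, hgm⟩ := Finite.exists_max fun A : Set.range ent => val A.1 (Y A)
  set ym := Y ⟨ent gm, gm, rfl⟩ with hym
  set m := deg U hne gm ym with hm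
  have hmax : ∀ g ∈ D.group F, ∀ y ∈ K, ∀ c, DegU U g y c → c ≤ m := fun g hg y hy c hc =>
    (((le_deg_iff hne).2 hc).trans (le_of_eq (hdeg ⟨g, hg⟩ y))).trans
      ((hYmax ⟨ent ⟨g, hg⟩, ⟨g, hg⟩, rfl⟩ hy).trans (hgm ⟨ent ⟨g, hg⟩, ⟨g, hg⟩, rfl⟩))
  have hm0 : 0 < m := hd₁.trans_le (hmax g₁ hg₁ _ ⟨⟨x₁, rfl⟩, hn₁⟩ _ ((le_deg_iff hne).1 le_rfl))
  obtain ⟨⟨xm, hxm⟩, hnm⟩ : ym ∈ K := hYK _
  obtain ⟨w₀, x, hx, hdom⟩ := exists_dominant hW h xm
  have hnW : ∀ w : M.Group, nW hW h F w ∈ D.group F := fun w =>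
    monomial_le_group hW (nW_mem hW h w)
  set g₀ := (gm : GL D.Idx F) * nW hW h F w₀ with hg₀
  have hg₀G : g₀ ∈ D.group F := mul_mem gm.2 (hnW w₀)
  set y₀ := yv D x with hy₀
  have hn₀ : nsq y₀ = 1 := by rw [hx, nsq_act, hxm]; exact hnm
  have hdeg₀ : DegU U g₀ y₀ m := by
    have h1 : DegU U gm (yv D xm) m := by rw [hxm]; exact (le_deg_iff hne).1 le_rfl
    rw [hx]
    exact h1.inter (inter_nW_and_mem_range (F := F) hW h w₀ xm).1
  set J : Set (Fin D.rank) := {i | yv D x (Sum.inr (pRoot hW i)) = 0} with hJ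
  have hJproper : ∃ i, i ∉ J.toFinset := by
    simp only [Set.mem_toFinset]
    by_contra! hall
    have hz : ∀ a, y₀ a = 0 := by
      rintro (i | r)
      · exact yv_inl x i
      · have hpos : ∀ s : Root D, half D ≤ (s : ℕ) → y₀ (Sum.inr s) = 0 := fun s hs =>
          (dominant_pos hW hdom hs).2.2 fun i hi => absurd (hall i) hi
        by_cases hp : half D ≤ (r : ℕ)
        · exact hpos r hp
        · have := hpos r.rev (by have := hW.good.two_half; rw [Fin.val_rev]; omega)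
          simp only [hy₀, yv_rev hW.good] at this ⊢
          linarith
    simp [nsq, hz] at hn₀
  refine ⟨g₀, hg₀G, J.toFinset, hJproper, y₀, m, hdeg₀, fun g hgG hgd => ?_⟩
  have hPJ : ChevUnip.PJ hW F J.toFinset = pJ hW F J := by
    simp [ChevUnip.PJ, pJ]
  rw [hPJ]
  obtain ⟨w, b, hb, b', hb', e⟩ := exists_mem_cell hW h (mul_mem (inv_mem hg₀G) hgG)
  have hbG : b ∈ D.group F := borel_le_group hW hb
  have h1 : DegU U (g₀ * b * nW hW h F w) y₀ m := by
    have h1 := hgd.filt (inv_mem (borel_le_filt hW hdom hb'))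
    have e' : g * b'⁻¹ = g₀ * b * nW hW h F w := by
      calc g * b'⁻¹ = g₀ * (g₀⁻¹ * g) * b'⁻¹ := by group
        _ = g₀ * b * nW hW h F w := by rw [← e]; group
    rwa [e'] at h1
  -- pull back along `nW w`
  obtain ⟨z, hz⟩ : ∃ z, act h w z = y₀ ∧ ∃ x', yv D x' = z := by
    obtain ⟨hI, x', hx'⟩ := inter_nW_and_mem_range (F := F) hW h w⁻¹ x
    exact ⟨_, by rw [← act_mul, inv_mul_cancel, act_one], x', hx'⟩
  obtain ⟨hz, x', hx'⟩ := hz
  have hz1 : nsq z = 1 := by rw [← nsq_act h w, hz, hn₀]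
  have h2 : DegU U (g₀ * b) z m := by
    have hI := (inter_nW_and_mem_range (F := F) hW h w x').1
    rw [hx', hz] at hI
    have := h1.inter hI.inv
    rwa [show g₀ * b * nW hW h F w * (nW hW h F w)⁻¹ = g₀ * b by group] at this
  have h3 : DegU U (g₀ * b) y₀ m := hdeg₀.filt (borel_le_filt hW hdom hb)
  -- uniqueness
  have hzy : z = y₀ := by
    by_contra hne'
    have hmu := (h2.add h3).smul (show (0 : ℝ) ≤ 1 / 2 by norm_num)
    set μ := (1 / 2 : ℝ) • (z + y₀) with hμ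
    rw [show (1 / 2 : ℝ) * (m + m) = m by ring] at hmu
    have hμlt : nsq μ < 1 := by
      have hd : 0 < nsq (z - y₀) := by
        rcases (Finset.sum_nonneg fun a _ => sq_nonneg ((z - y₀) a)).lt_or_eq with h4 | h4
        · exact h4
        · exact absurd (sub_eq_zero.mp (eq_zero_of_nsq h4.symm)) hne'
      have : nsq μ = (nsq z + nsq y₀) / 2 - nsq (z - y₀) / 4 := by
        simp only [hμ, nsq, Pi.smul_apply, Pi.add_apply, Pi.sub_apply, smul_eq_mul,
          ← Finset.sum_add_distrib, Finset.sum_div, ← Finset.sum_sub_distrib]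
        exact Finset.sum_congr rfl fun a _ => by ring
      rw [this, hz1, hn₀]
      linarith
    have hμ0 : 0 < nsq μ := by
      rcases (Finset.sum_nonneg fun a _ => sq_nonneg (μ a)).lt_or_eq with h4 | h4
      · exact h4
      · obtain ⟨ab, hab⟩ := entries_nonempty hne (g₀ * b)
        obtain ⟨u, hu, hne''⟩ := mem_entries.1 hab
        have := hmu u hu _ _ hne''
        rw [eq_zero_of_nsq h4.symm] at this
        simp at this
        linarith
    set s := (Real.sqrt (nsq μ))⁻¹ with hs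
    have hsq : Real.sqrt (nsq μ) < 1 := by
      rw [← Real.sqrt_one]; exact Real.sqrt_lt_sqrt hμ0.le hμlt
    have hs1 : 1 < s := (one_lt_inv₀ (Real.sqrt_pos.mpr hμ0)).mpr hsq
    have hKμ : s • μ ∈ K := by
      refine ⟨⟨s • ((1 / 2 : ℝ) • (x' + x)), ?_⟩, ?_⟩
      · rw [map_smul, map_smul, map_add, hx', ← hy₀]
      · rw [nsq_smul, hs, inv_pow, Real.sq_sqrt hμ0.le, inv_mul_cancel₀ hμ0.ne']
    have := hmax _ (mul_mem hg₀G hbG) _ hKμ _ (hmu.smul (by linarith))
    nlinarith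
  have hfix : act h w (yv D x) = yv D x := by rw [hzy] at hz; exact hz
  rw [← e]
  exact mul_mem (mul_mem (Subgroup.mem_sup_left hb) (nW_mem_of_act_eq hW h hdom hfix))
    (Subgroup.mem_sup_left hb')

/-- The field endomorphism carries degrees. -/
theorem degU_gmap {U : Subgroup (GL D.Idx F)} (σ : F →+* F) (hfix : ∀ u ∈ U, gmap D σ u = u)
    {g : GL D.Idx F} {y : D.Idx → ℝ} {m : ℝ} (hd : DegU U g y m) :
    DegU U (gmap D σ g) y m := by
  intro u hu a b hab
  refine hd u hu a b fun h0 => hab ?_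
  have e : (gmap D σ g)⁻¹ * u * gmap D σ g = gmap D σ (g⁻¹ * u * g) := by
    rw [map_mul, map_mul, map_inv, hfix u hu]
  rw [Matrix.sub_apply] at h0 ⊢
  rw [e, Matrix.GeneralLinearGroup.map_apply]
  have : ((1 : Matrix D.Idx D.Idx F) a b) = σ ((1 : Matrix D.Idx D.Idx F) a b) := by
    by_cases hab' : a = b <;> simp [Matrix.one_apply, hab']
  rw [this, ← map_sub, h0, map_zero]

/-- The best parabolic subgroup of an element conjugate into `U`. -/
theorem exists_optimal (hW : GoodWeyl D) (h : Weyl.RootGood C M R) {x : GL D.Idx F} (hx : x ≠ 1)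
    {g₁ : GL D.Idx F} (hg₁ : g₁ ∈ D.group F) (hu : g₁⁻¹ * x * g₁ ∈ D.posUnipotent F) :
    ∃ g₀ ∈ D.group F, ∃ J : Finset (Fin D.rank), (∃ i, i ∉ J) ∧
      (∀ n ∈ D.group F, n * x = x * n → g₀⁻¹ * n * g₀ ∈ ChevUnip.PJ hW F J) ∧
      ∀ σ : F →+* F, gmap D σ x = x → g₀⁻¹ * gmap D σ g₀ ∈ ChevUnip.PJ hW F J := by
  set U := Subgroup.zpowers x with hU
  have hne : U ≠ ⊥ := fun e => hx (by
    have := Subgroup.mem_zpowers x
    rwa [← hU, e, Subgroup.mem_bot] at this)
  set x₀ : Fin D.rank → ℝ := fun l => (((rhoVec D).getD l 0 : ℤ) : ℝ) with hx₀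
  have hy : ∀ r : Root D, yv D x₀ (Sum.inr r) = (ht D (Sum.inr r) : ℝ) := by
    intro r
    rw [yv_apply, ht_inr, Int.cast_sum]
    exact Finset.sum_congr rfl fun l _ => by rw [wt_inr, Int.cast_mul]
  have hpos : ∀ u ∈ U, g₁⁻¹ * u * g₁ ∈ uni F (yv D x₀) := by
    intro u hu'
    have h1 : D.posUnipotent F ≤ uni F (yv D x₀) := by
      rw [posUnipotent_eq_rootGen hW.good]
      refine rootGen_le _ fun r hr t => X_mem_uni hW hr ?_ t
      rw [hy]
      exact Int.cast_pos.mpr ((hW.good.pos_iff_ht r).1 hr)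
    obtain ⟨k, rfl⟩ := Subgroup.mem_zpowers_iff.1 hu'
    refine h1 ?_
    have e : g₁⁻¹ * x ^ k * g₁ = (g₁⁻¹ * x * g₁) ^ k := by
      have := map_zpow (MulAut.conj g₁⁻¹).toMonoidHom x k
      simpa using this
    rw [e]
    exact zpow_mem hu k
  have hd : 0 < deg U hne g₁ (yv D x₀) := by
    rw [deg, Finset.lt_inf'_iff]
    intro ab hab
    obtain ⟨u, hu', hne'⟩ := mem_entries.1 hab
    have := (hpos u hu').1 _ _ hne'
    linarith
  have hn : 0 < nsq (yv D x₀) := by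
    rcases (Finset.sum_nonneg fun a _ => sq_nonneg (yv D x₀ a)).lt_or_eq with h1 | h1
    · exact h1
    · obtain ⟨ab, hab⟩ := entries_nonempty hne g₁
      obtain ⟨u, hu', hne'⟩ := mem_entries.1 hab
      have h2 := (hpos u hu').1 _ _ hne'
      rw [eq_zero_of_nsq h1.symm] at h2
      exact absurd h2 (lt_irrefl _)
  set s := (Real.sqrt (nsq (yv D x₀)))⁻¹ with hs
  have hs0 : 0 < s := inv_pos.mpr (Real.sqrt_pos.mpr hn)
  obtain ⟨g₀, hg₀, J, hJ, y₀, m, hdeg, hopt⟩ := exists_optimal_group hW h hne hg₁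
    (x₁ := s • x₀) (by rw [map_smul, nsq_smul, hs, inv_pow, Real.sq_sqrt hn.le, inv_mul_cancel₀ hn.ne'])
    (by
      rw [map_smul]
      exact lt_of_lt_of_le (mul_pos hs0 hd)
        ((le_deg_iff hne).2 (((le_deg_iff hne).1 le_rfl).smul hs0.le)))
  refine ⟨g₀, hg₀, J, hJ, fun n hn' hc => ?_, fun σ hσ => ?_⟩
  · rw [mul_assoc]
    refine hopt _ (mul_mem hn' hg₀) fun u hu' => ?_
    obtain ⟨k, rfl⟩ := Subgroup.mem_zpowers_iff.1 hu'
    have e : (n * g₀)⁻¹ * x ^ k * (n * g₀) = g₀⁻¹ * x ^ k * g₀ := by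
      rw [mul_inv_rev, show g₀⁻¹ * n⁻¹ * x ^ k * (n * g₀) = g₀⁻¹ * n⁻¹ * (x ^ k * n) * g₀ by group,
        ← (Commute.zpow_right hc k).eq]
      group
    rw [e]
    exact hdeg _ hu'
  · refine hopt _ (ChevSubfield.gmap_mem_group σ hW.good hg₀) (degU_gmap σ (fun u hu' => ?_) hdeg)
    obtain ⟨k, rfl⟩ := Subgroup.mem_zpowers_iff.1 hu'
    rw [map_zpow, hσ]

end CfsgLib.SubfieldOver
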