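import Cfsg.Agent.SubfieldOver.Checks
import Cfsg.Prelude.Def_ChevAutomorphisms

/-!
# Table checks on orbits, torus pairings and long root pairs
-/

set_option autoImplicit false

namespace CfsgLib.SubfieldOver

open Cfsg.Lie CfsgLib.Chevalley

variable (D : ChevalleyDatum)

/-- `L` is the orbit of `top`: it is closed under reflections and negation and climbs to `top`. -/
def chkOrbit (L : ℕ → Bool) (top : ℕ) : Bool :=
  decide (top < D.nroots) && decide (half D ≤ top) && L top &&
    (List.range D.nroots).all fun r =>
      !L r || (L (opp D r) && (List.range D.rank).all (fun i => L (reflT D i r)) &&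
        (r == top || (List.range D.rank).any fun i => decide (r < reflT D i r)))

/-- Each fundamental root is in `L` or has pairing `±1` with a root in `L`. -/
def chkTorus (L : ℕ → Bool) : Bool :=
  (List.range D.rank).all fun i =>
    L (D.simple i) ||
      (List.range D.nroots).any fun a => L a && (D.pairing a (D.simple i)).natAbs == 1

/-- The top root is central in `U` in every characteristic. -/
def chkTop (top : ℕ) : Bool :=
  (List.range (half D)).all fun l => (D.commTerms top (half D + l)).isEmpty

/-- Two roots in `L` with a single commutator term in `L`, of coefficient `±1`. -/
def chkA2 (L : ℕ → Bool) : Bool :=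
  (List.range D.nroots).any fun a => L a && (List.range D.nroots).any fun b =>
    L b && a != b && b != opp D a && match D.commTerms a b with
      | [c] => L c.1 && decide (c.1 < D.nroots) && c.2.1.natAbs == 1 && c.2.2.1 == 1 && c.2.2.2 == 1
      | _ => false

/-- A long root and the top root commute or have one commutator term commuting with both. -/
def chkMain (L : ℕ → Bool) (top : ℕ) : Bool :=
  (List.range D.nroots).all fun b =>
    !L b || b == top || b == opp D top || match D.commTerms top b with
      | [] => true
      | [c] => decide (half D ≤ c.1) && decide (c.1 < D.nroots) && c.2.1.natAbs == 1 &&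
          c.2.2.1 == 1 && c.2.2.2 == 1 && (D.commTerms b c.1).isEmpty && c.1 != b && c.1 != opp D b
      | _ => false

/-- A positive root commuting with the negative top root and with the positive roots of even
pairing with the top root. -/
def chkPerp (top : ℕ) : Bool :=
  (List.range (half D)).any fun k =>
    half D + k != top && (D.commTerms (half D + k) (opp D top)).isEmpty &&
      (List.range (half D)).all fun l =>
        l == k || D.pairing top (half D + l) % 2 != 0 ||
          (D.commTerms (half D + k) (half D + l)).isEmpty

/-- A reflection fixes the top root and moves `r0` to a root climbing back to `r0` by `α_i`. -/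
def chkShortRel (q r0 top i : ℕ) : Bool :=
  let s := D.simple i
  let r1 := reflT D i r0
  reflT D i top == top && decide (half D ≤ r1) && r1 != s && s != top &&
    match D.commTerms r1 s with
    | c :: L => (c.1 == r0) && (c.2.2.1 == 1) && (c.2.2.2 == 1) && decide (c.2.1.natAbs ≤ 3) &&
        (c.2.1.natAbs % q != 0) && L.all fun e => e.2.1.natAbs % q == 0
    | [] => false

/-- Two fundamental roots without commutator. -/
def chkPair : Bool :=
  (List.range D.rank).any fun i => (List.range D.rank).any fun j =>
    i != j && (D.commTerms (D.simple i) (D.simple j)).isEmpty

end CfsgLib.SubfieldOver
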