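import Cfsg.Agent.SubfieldOver.OddChar
import Cfsg.Agent.ChevParabolic.Sylow
import Cfsg.Agent.ChevSubfield.SubfieldGroup

/-!
# The conjugates of the top root element are fixed in characteristic two

A fixed involution `b ∈ U` not conjugate to `x_θ(1)` gives, in a dihedral group, an involution
commuting with both `x_θ(1)` and a conjugate of `b`; it is conjugate into `U` over the fixed field.
-/

set_option autoImplicit false

namespace CfsgLib.SubfieldOver

open Cfsg.Lie CfsgLib CfsgLib.Chevalley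
open CfsgLib.ChevSubfield (gmap fixElem)
open scoped MatrixGroups

variable {D : ChevalleyDatum} {F : Type*} [Field F]
variable {C : Weyl.Cert D.rank} {M : CoxeterMatrix (Fin D.rank)} {R : Weyl.RootTable}
variable {hW : GoodWeyl D} {σ : F →+* F} {H : Subgroup (GL D.Idx F)}

/-- A conjugate of `x_θ(1)` in `U` has a nonzero first coordinate at long roots only. -/
theorem root_of_conj_top (h : Weyl.RootGood C M R) {L : ℕ → Bool} {top : Root D}
    (hO : chkOrbit D L top = true) (hchk : chkTop D top = true) {g b : GL D.Idx F}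
    (hg : g ∈ D.group F) (hbU : b ∈ D.posUnipotent F) (hb : g * X hW.good top 1 * g⁻¹ = b) :
    ∃ β : Root D, L β = true ∧ ∀ w : Root D, half D ≤ (w : ℕ) →
      IsLay (ht D (Sum.inr w)) b → layerVal w b ≠ 0 → w = β := by
  obtain ⟨u, hu, β, hβ, t, ht, e⟩ := exists_conj_top (hW := hW) h hO hchk hg
  refine ⟨β, hβ, fun w hw hlay hval => ?_⟩
  have e1 : X hW.good β t = u⁻¹ * b * u⁻¹⁻¹ := by rw [← hb, e]; group
  have h1 := layerVal_conj hW.good hw (inv_mem hu) hlay
  rw [← e1, layerVal_X] at h1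
  by_contra hne
  rw [if_neg (Ne.symm hne)] at h1
  exact hval h1.symm

/-- A short fundamental root element is not conjugate to `x_θ(1)`. -/
theorem not_conj_short (h : Weyl.RootGood C M R) {L : ℕ → Bool} {top : Root D}
    (hO : chkOrbit D L top = true) (hchk : chkTop D top = true) {r : Root D}
    (hr : half D ≤ (r : ℕ)) (hL : L r = false) :
    ∀ g ∈ D.group F, g * X hW.good top 1 * g⁻¹ ≠ X hW.good r 1 := by
  intro g hg e
  obtain ⟨β, hβ, hw⟩ := root_of_conj_top (hW := hW) h hO hchk hg (X_mem_pos hW.good hr 1) e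
  have hlay : IsLay (ht D (Sum.inr r)) (X hW.good r (1 : F)) :=
    layer_entries hW.good ((hW.good.pos_iff_ht r).1 hr)
      (X_mem_rootGen _ (show r ∈ {c : Root D | ht D (Sum.inr r) ≤ ht D (Sum.inr c)} from
        le_refl (ht D (Sum.inr r))) _)
  have := hw r hr hlay (by
    obtain ⟨j, hj⟩ := hW.toGoodUni.exists_coroot_ne F r
    intro e0
    rw [layerVal_X, if_pos rfl] at e0
    exact hj (by simpa using congrFun e0 j))
  rw [this, hβ] at hL
  exact Bool.noConfusion hL

/-- A product of two commuting fundamental root elements is not conjugate to `x_θ(1)`. -/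
theorem not_conj_pair (h : Weyl.RootGood C M R) {L : ℕ → Bool} {top : Root D}
    (hO : chkOrbit D L top = true) (hchk : chkTop D top = true) {i j : Fin D.rank} (hij : i ≠ j) :
    ∀ g ∈ D.group F, g * X hW.good top 1 * g⁻¹ ≠
      X hW.good (pRoot hW i) 1 * X hW.good (pRoot hW j) 1 := by
  intro g hg e
  obtain ⟨β, -, hw⟩ := root_of_conj_top (hW := hW) h hO hchk hg
    (mul_mem (X_mem_pos hW.good (pRoot_pos hW i) 1) (X_mem_pos hW.good (pRoot_pos hW j) 1)) e
  have hht : ∀ k, ht D (Sum.inr (pRoot hW k)) = 2 := fun k =>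
    (hW.good.height_sign _).2.2 ⟨k, k.isLt, rfl⟩
  have hlay : ∀ k, IsLay 2 (X hW.good (pRoot hW k) (1 : F)) := fun k =>
    layer_entries hW.good two_pos (X_mem_rootGen _
      (show pRoot hW k ∈ {c : Root D | 2 ≤ ht D (Sum.inr c)} from (hht k).ge) _)
  have hkey : ∀ k, (k = i ∨ k = j) → pRoot hW k = β := by
    intro k hk
    refine hw _ (pRoot_pos hW k) (hht k ▸ (hlay i).mul two_pos (hlay j)) ?_
    rw [layerVal_mul hW.good (pRoot_pos hW k) (hht k ▸ hlay i) (hht k ▸ hlay j), layerVal_X,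
      layerVal_X]
    obtain ⟨l, hl⟩ := hW.toGoodUni.exists_coroot_ne F (pRoot hW k)
    intro e0
    have := congrFun e0 l
    rcases hk with rfl | rfl
    · rw [if_pos rfl, if_neg fun e => hij (hW.good.genR_injective false e.symm)] at this
      exact hl (by simpa using this)
    · rw [if_pos rfl, if_neg fun e => hij (hW.good.genR_injective false e)] at this
      exact hl (by simpa using this)
  exact hij (hW.good.genR_injective false ((hkey i (Or.inl rfl)).trans (hkey j (Or.inr rfl)).symm))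

/-- A fixed element of `G` of order dividing two is generated by fixed root elements. -/
theorem involution_mem_fixElem (h : Weyl.RootGood C M R) {m : ℕ} (hm : Odd m)
    (hfix : ∀ x : F, σ x = x → x ≠ 0 → x ^ m = 1) {z : GL D.Idx F} (hzG : z ∈ D.group F)
    (hzσ : gmap D σ z = z) (hz2 : z * z = 1) : z ∈ fixElem hW.good σ := by
  obtain ⟨l, hl, k, hk, hkσ, rfl⟩ := ChevSubfield.exists_fixed_eq σ hW h hzG hzσ
  have key : ∀ n : ℕ, ∃ l' ∈ fixElem hW.good σ, (l * k) ^ n = l' * k ^ n := by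
    intro n
    induction n with
    | zero => exact ⟨1, one_mem _, by simp⟩
    | succ n ih =>
      obtain ⟨l', hl', e⟩ := ih
      exact ⟨l * (k * l' * k⁻¹), mul_mem hl (ChevSubfield.diag_fixed_conj σ hW hk hkσ hl'),
        by rw [pow_succ', e, pow_succ']; group⟩
  have hkm : k ^ m = 1 := by
    obtain ⟨c, hc⟩ : k ∈ (torHom D F).range := by rwa [← diagonalSubgroup_eq_range hW]
    have hval : ∀ a, σ (ChevTorus.torVal c a : F) = (ChevTorus.torVal c a : F) := by
      intro a
      have := congrArg (fun A : GL D.Idx F => (A : Matrix D.Idx D.Idx F) a a) hkσ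
      rw [← hc] at this
      change σ ((torC D c : GL D.Idx F) a a) = (torC D c : GL D.Idx F) a a at this
      rwa [ChevTorus.coe_torC, Matrix.diagonal_apply_eq] at this
    rw [← hc, ← map_pow]
    apply Units.ext
    show ((torC D (c ^ m) : GL D.Idx F) : Matrix D.Idx D.Idx F) = 1
    rw [ChevTorus.coe_torC, ← Matrix.diagonal_one]
    congr 1
    funext a
    have : ChevTorus.torVal (c ^ m) a = ChevTorus.torVal c a ^ m := by
      simp only [ChevTorus.torVal, Pi.pow_apply, ← Finset.prod_pow]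
      exact Finset.prod_congr rfl fun l _ => by
        rw [← zpow_natCast (c l), ← zpow_natCast ((c l) ^ _), ← zpow_mul, ← zpow_mul, mul_comm]
    rw [this, Units.val_pow_eq_pow_val]
    exact hfix _ (hval a) (Units.ne_zero _)
  obtain ⟨l', hl', e⟩ := key m
  obtain ⟨q, rfl⟩ := hm
  rw [hkm, mul_one, pow_succ, pow_mul, pow_two, hz2, one_pow, one_mul] at e
  rw [e]
  exact hl'

/-- In characteristic two every conjugate in `H` of `x_θ(1)` by an element of `H` is fixed. -/
theorem conj_top_fixed_two [CharP F 2] [Finite H] (h : Weyl.RootGood C M R) (S : Setting hW σ H)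
    (F₀ : Subfield F) [Fintype F₀] (hF₀ : ∀ t, σ t = t ↔ t ∈ F₀) {L : ℕ → Bool} {top : Root D}
    (hO : chkOrbit D L top = true) (hchk : chkTop D top = true) {b : GL D.Idx F} (hbH : b ∈ H)
    (hbU : b ∈ D.posUnipotent F) (hb2 : b * b = 1) (hb1 : b ≠ 1)
    (hnc : ∀ g ∈ D.group F, g * X hW.good top 1 * g⁻¹ ≠ b) {g : GL D.Idx F} (hg : g ∈ H) :
    gmap D σ (g * X hW.good top 1 * g⁻¹) = g * X hW.good top 1 * g⁻¹ := by
  classical
  have hT := (orbit_lt hO).2.1
  set a := X hW.good top (1 : F)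
  have haH : a ∈ H := S.X_mem top (map_one σ)
  have haσ : gmap D σ a = a := by rw [X_map, map_one]
  have ha2 : a * a = 1 := by rw [X_mul, CharTwo.add_self_eq_zero, X_zero]
  set b' := g * b * g⁻¹ with hb'
  have hb'H : b' ∈ H := mul_mem (mul_mem hg hbH) (inv_mem hg)
  have hb'2 : b' * b' = 1 := by
    rw [hb', show g * b * g⁻¹ * (g * b * g⁻¹) = g * (b * b) * g⁻¹ by group, hb2]; group
  set w := a * b'
  have hwH : w ∈ H := mul_mem haH hb'H
  obtain ⟨n, hn0, hn, hnd⟩ : ∃ n, 0 < n ∧ w ^ n = 1 ∧ ∀ j, w ^ j = 1 → n ∣ j := by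
    refine ⟨orderOf (⟨w, hwH⟩ : H), orderOf_pos _, congrArg Subtype.val (pow_orderOf_eq_one (⟨w, hwH⟩ : H)),
      fun j hj => orderOf_dvd_of_pow_eq_one (Subtype.ext hj)⟩
  have hinv : w⁻¹ = b' * a := by
    rw [mul_inv_rev, inv_eq_of_mul_eq_one_right ha2, inv_eq_of_mul_eq_one_right hb'2]
  have haw : ∀ j : ℕ, a * w ^ j * a⁻¹ = (w ^ j)⁻¹ := by
    intro j
    rw [← conj_pow, ← inv_pow, hinv]
    congr 1
    rw [show a * w * a⁻¹ = (a * a) * b' * a⁻¹ by simp only [w]; group, ha2, one_mul,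
      inv_eq_of_mul_eq_one_right ha2]
  obtain ⟨k, rfl | rfl⟩ := n.even_or_odd'
  swap
  · -- odd order: `b` would be conjugate to `x_θ(1)`
    exfalso
    have e : w ^ k * a * (w ^ k)⁻¹ = b' := by
      have h1 : a * (w ^ k)⁻¹ = w ^ k * a := by
        rw [← haw]
        calc a * (a * w ^ k * a⁻¹) = (a * a) * w ^ k * a⁻¹ := by group
          _ = _ := by rw [ha2, one_mul, inv_eq_of_mul_eq_one_right ha2]
      rw [mul_assoc, h1, ← mul_assoc, ← pow_add, ← two_mul,
        show w ^ (2 * k) = w⁻¹ from (inv_eq_of_mul_eq_one_left (by rw [← pow_succ, hn])).symm, hinv,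
        mul_assoc, ha2, mul_one]
    refine hnc (g⁻¹ * w ^ k) (mul_mem (inv_mem (S.le_group hg)) (S.le_group (pow_mem hwH k))) ?_
    rw [show g⁻¹ * w ^ k * a * (g⁻¹ * w ^ k)⁻¹ = g⁻¹ * (w ^ k * a * (w ^ k)⁻¹) * g by group, e, hb']
    group
  set z := w ^ k with hz
  have hz2 : z * z = 1 := by rw [hz, ← pow_add, ← two_mul, hn]
  have hz1 : z ≠ 1 := fun e => by
    have := Nat.le_of_dvd (by omega) (hnd k e)
    omega
  have hza : Commute z a := by
    have := haw k
    rw [← hz, inv_eq_of_mul_eq_one_right hz2, mul_inv_eq_iff_eq_mul] at this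
    exact this.symm
  have hzb : Commute z b' := by
    have h1 : Commute z w := (Commute.refl w).pow_left k
    rw [show b' = a * w by simp only [w]; rw [← mul_assoc, ha2, one_mul]]
    exact hza.mul_right h1
  have hzH : z ∈ H := pow_mem hwH k
  have hzσ := S.centralizer_pos_fixed h haσ (X_ne_one hW.good top one_ne_zero)
    (X_mem_pos hW.good hT _) hzH hza
  obtain ⟨q, -, hq⟩ := FiniteField.card F₀ 2
  have hfix : ∀ x : F, σ x = x → x ≠ 0 → x ^ (Fintype.card F₀ - 1) = 1 := fun x hx hx0 => by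
    have := congrArg Subtype.val
      (FiniteField.pow_card_sub_one_eq_one (⟨x, (hF₀ x).1 hx⟩ : F₀) fun e => hx0 (congrArg Subtype.val e))
    simpa using this
  have hodd : Odd (Fintype.card F₀ - 1) := by
    rw [hq]
    obtain ⟨d, hd⟩ : ∃ d, (q : ℕ) = d + 1 := ⟨(q : ℕ) - 1, by have := q.pos; omega⟩
    rw [hd, pow_succ]
    have := Nat.one_le_two_pow (n := d)
    exact ⟨2 ^ d - 1, by omega⟩
  have hzL := involution_mem_fixElem (hW := hW) h hodd hfix (S.le_group hzH) hzσ hz2
  have hmap := ChevSubfield.map_group_eq hW.good F₀.subtype σ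
    (fun t => (hF₀ t).trans ⟨fun ht => ⟨⟨t, ht⟩, rfl⟩, by rintro ⟨s, rfl⟩; exact s.2⟩)
  rw [← hmap] at hzL
  obtain ⟨z₀, hz₀, hz₀e⟩ := hzL
  have hinj : Function.Injective
      (Matrix.GeneralLinearGroup.map (n := D.Idx) F₀.subtype) :=
    map_injective_GL Subtype.val_injective
  have : CharP F₀ 2 := RingHom.charP F₀.subtype Subtype.val_injective 2
  obtain ⟨x₀, hx₀, hxU⟩ := ChevParabolic.exists_conj_mem_pos hW h 2 hz₀ (k := 1)
    (hinj (by rw [map_pow, map_one, hz₀e, pow_one, pow_two, hz2]))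
  set x := Matrix.GeneralLinearGroup.map F₀.subtype x₀
  have hxG : x ∈ D.group F := by
    have : x ∈ fixElem hW.good σ := hmap ▸ Subgroup.mem_map_of_mem _ hx₀
    exact S.le_group (S.fix_le this)
  have hzU : x * z * x⁻¹ ∈ D.posUnipotent F := by
    rw [← hz₀e, ← map_inv, ← map_mul, ← map_mul]
    refine (?_ : D.posUnipotent F₀ ≤ (D.posUnipotent F).comap
      (Matrix.GeneralLinearGroup.map (n := D.Idx) F₀.subtype)) hxU
    rw [posUnipotent_eq_closure hW.good, Subgroup.closure_le]
    rintro _ ⟨r, hr, v, rfl⟩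
    rw [SetLike.mem_coe, Subgroup.mem_comap, X_map]
    exact X_mem_pos hW.good hr _
  have hb'σ := S.centralizer_fixed h hzσ hz1 (g₁ := x⁻¹) (inv_mem hxG)
    (by rwa [inv_inv]) hb'H hzb.symm
  refine S.centralizer_fixed h hb'σ (fun e => ?_) (S.le_group hg)
    (by rw [show g⁻¹ * b' * g = b by rw [hb']; group]; exact hbU)
    (mul_mem (mul_mem hg haH) (inv_mem hg)) ((commute_top_pos hW hT hchk hbU 1).conj g)
  rw [hb', mul_inv_eq_one, mul_eq_left] at e
  exact hb1 e

end CfsgLib.SubfieldOver
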